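import Groth.Agent.AlgSp.K613.Diag
import Groth.Prelude.Def_AlgSpMor5
import Groth.Agent.Ega2.DVRCriterion
import Groth.Agent.Etbase.FpqcDescent
import Mathlib.AlgebraicGeometry.ZariskisMainTheorem

/-!
# The relative diagonal of a morphism of algebraic spaces is locally of finite type; discrete valuation rings
detect that it is a closed immersion (locally Noetherian base, finite type).
-/

set_option autoImplicit false
universe u

open CategoryTheory CategoryTheory.Limits AlgebraicGeometry Opposite

namespace K604.SepDvr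

open AlgSp K613.Basic K613.Cover K613.Chart K613.Diag

variable {S : Scheme.{u}} {F G H P Q X Y Z : Sp S}

/-- The locus where two lifts to an étale chart have the same image in `X` is locally of finite type. -/
theorem lft_isEq_chart {U : Over S} {p : (yon S).obj U ⟶ X} (hp : RepWith @Etale p) {T : Over S} (a b : T ⟶ U)
    {E : Over S} {e : E ⟶ T} (he : IsEq ((yon S).map a ≫ p) ((yon S).map b ≫ p) e) :
    LocallyOfFiniteType e.left := by
  obtain ⟨R, r₂, k, sq⟩ := hp.1 p
  obtain ⟨r₁, rfl⟩ := (yon S).map_surjective k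
  have h1 : Etale r₁.left := hp.2 p _ _ sq.flip
  let j : R ⟶ U ⨯ U := prod.lift r₁ r₂
  have hj : LocallyOfFiniteType j.left := by
    have h2 : j.left ≫ (prod.fst : U ⨯ U ⟶ U).left = r₁.left := by
      rw [← Over.comp_left, prod.lift_fst]
    have : LocallyOfFiniteType (j.left ≫ (prod.fst : U ⨯ U ⟶ U).left) := by
      rw [h2]; infer_instance
    exact locallyOfFiniteType_of_comp j.left (prod.fst : U ⨯ U ⟶ U).left
  obtain ⟨ρ, hρ⟩ := (yon S).map_surjective (sq.lift ((yon S).map (e ≫ a)) ((yon S).map (e ≫ b)) (by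
    rw [Functor.map_comp, Functor.map_comp, Category.assoc, Category.assoc, he.w]))
  have hρ1 : ρ ≫ r₁ = e ≫ a := by
    apply (yon S).map_injective
    rw [Functor.map_comp, hρ, sq.lift_fst]
  have hρ2 : ρ ≫ r₂ = e ≫ b := by
    apply (yon S).map_injective
    rw [Functor.map_comp, hρ, sq.lift_snd]
  have hpb : IsPullback ρ e j (prod.lift a b) := by
    have w : ρ ≫ j = e ≫ prod.lift a b := by
      apply Limits.prod.hom_ext
      · rw [Category.assoc, Category.assoc, prod.lift_fst, prod.lift_fst, hρ1]
      · rw [Category.assoc, Category.assoc, prod.lift_snd, prod.lift_snd, hρ2]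
    have hl : ∀ s : PullbackCone j (prod.lift a b), ∃! r' : s.pt ⟶ E, r' ≫ e = s.snd := by
      intro s
      refine he.lift s.pt s.snd ?_
      have h3 : s.fst ≫ r₁ = s.snd ≫ a := by
        have := congrArg (· ≫ prod.fst) s.condition
        simpa [j, prod.lift_fst] using this
      have h4 : s.fst ≫ r₂ = s.snd ≫ b := by
        have := congrArg (· ≫ prod.snd) s.condition
        simpa [j, prod.lift_snd] using this
      rw [← Category.assoc, ← Category.assoc, ← Functor.map_comp, ← Functor.map_comp, ← h3, ← h4,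
        Functor.map_comp, Functor.map_comp, Category.assoc, Category.assoc, sq.w]
    have hR : ∀ (T' : Over S) (x y : T' ⟶ R), x ≫ j = y ≫ j → x = y := by
      intro T' x y hxy
      have h3 : x ≫ r₁ = y ≫ r₁ := by
        have := congrArg (· ≫ prod.fst) hxy
        simpa [j, prod.lift_fst] using this
      have h4 : x ≫ r₂ = y ≫ r₂ := by
        have := congrArg (· ≫ prod.snd) hxy
        simpa [j, prod.lift_snd] using this
      apply (yon S).map_injective
      apply sq.hom_ext
      · rw [← Functor.map_comp, ← Functor.map_comp, h3]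
      · rw [← Functor.map_comp, ← Functor.map_comp, h4]
    refine ⟨⟨w⟩, ⟨PullbackCone.IsLimit.mk w (fun s => (hl s).choose) ?_ ?_ ?_⟩⟩
    · intro s
      apply hR
      rw [Category.assoc, w, ← Category.assoc, (hl s).choose_spec.1, s.condition]
    · intro s
      exact (hl s).choose_spec.1
    · intro s m hm1 hm2
      exact (hl s).choose_spec.2 m hm2
  have := hpb.map (Over.forget S)
  exact MorphismProperty.of_isPullback (P := @LocallyOfFiniteType) this hj

/-- The relative diagonal of a morphism from an algebraic space is representable and locally of finite type. -/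
theorem lft_diagonal (hX : IsAlgSpace X) (f : X ⟶ Y) : RepWith @LocallyOfFiniteType (pullback.diagonal f) := by
  obtain ⟨U, p, hp⟩ := exists_ch hX
  rw [repWith_diagonal_iff]
  intro T a b _
  obtain ⟨E, e, he⟩ := representable_diag_iff.1 hX.diag T a b
  refine ⟨E, e, he, ?_⟩
  obtain ⟨T₁, c₁, a₁, hc₁, ha₁⟩ := hp.eSurj T a
  obtain ⟨T₂, c₂, b₂, hc₂, hb₂⟩ := hp.eSurj T₁ ((yon S).map c₁ ≫ b)
  obtain ⟨a₁, rfl⟩ := (yon S).map_surjective a₁
  obtain ⟨b₂, rfl⟩ := (yon S).map_surjective b₂
  have hc : FpC (c₂ ≫ c₁) := (hc₁.comp hc₂).fpC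
  have h1 := he.of_pullback (IsPullback.of_hasPullback e (c₂ ≫ c₁))
  have ha : (yon S).map (c₂ ≫ c₁) ≫ a = (yon S).map (c₂ ≫ a₁) ≫ p := by
    rw [Functor.map_comp, Category.assoc, ← ha₁, Functor.map_comp, Category.assoc]
  have hb : (yon S).map (c₂ ≫ c₁) ≫ b = (yon S).map b₂ ≫ p := by
    rw [Functor.map_comp, Category.assoc, ← hb₂]
  rw [ha, hb] at h1
  have h2 := lft_isEq_chart hp.et _ _ h1
  have h3 := (IsPullback.of_hasPullback e (c₂ ≫ c₁)).map (Over.forget S)
  exact MorphismProperty.of_isPullback_of_descendsAlong (P := @LocallyOfFiniteType) (Q := fppf) h3.flip hc.mem h2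

/-- Uniqueness of the dotted arrow for squares over discrete valuation rings. -/
def DvrUniq (f : X ⟶ Y) : Prop :=
  ∀ (A : Type u) [CommRing A] [IsDomain A] [IsDiscreteValuationRing A] (str : Spec (CommRingCat.of A) ⟶ S)
    (l l' : (yon S).obj (Over.mk str) ⟶ X), l ≫ f = l' ≫ f →
      (yon S).map (Over.homMk (U := Over.mk (Spec.map (CommRingCat.ofHom (algebraMap A (FractionRing A))) ≫ str))
        (V := Over.mk str) (Spec.map (CommRingCat.ofHom (algebraMap A (FractionRing A)))) rfl) ≫ l =
      (yon S).map (Over.homMk (U := Over.mk (Spec.map (CommRingCat.ofHom (algebraMap A (FractionRing A))) ≫ str))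
        (V := Over.mk str) (Spec.map (CommRingCat.ofHom (algebraMap A (FractionRing A)))) rfl) ≫ l' → l = l'

theorem dvrUniq_of_valSq {f : X ⟶ Y} (H : ∀ sq : ValSq f, IsDiscreteValuationRing sq.A → sq.HasUniq) :
    DvrUniq f := by
  intro A _ _ _ str l l' h1 h2
  refine H
    { A := A
      K := FractionRing A
      str := str
      top := (yon S).map (Over.homMk (U := Over.mk (Spec.map (CommRingCat.ofHom (algebraMap A (FractionRing A))) ≫ str))
        (V := Over.mk str) (Spec.map (CommRingCat.ofHom (algebraMap A (FractionRing A)))) rfl) ≫ l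
      bot := l ≫ f
      comm := by rw [Category.assoc] } inferInstance l l' rfl rfl h2.symm h1.symm

/-- A locus in a locally Noetherian scheme where two maps agree is closed, if two maps from the spectrum of a discrete
valuation ring which agree over `Y` and generically are equal. -/
theorem isClosedImmersion_isEq {f : X ⟶ Y} (H : DvrUniq f) {T : Over S} [IsLocallyNoetherian T.left]
    {a b : (yon S).obj T ⟶ X} (hab : a ≫ f = b ≫ f) {E : Over S} {e : E ⟶ T} (he : IsEq a b e)
    [LocallyOfFiniteType e.left] [QuasiCompact e.left] : IsClosedImmersion e.left := by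
  have hm : Mono e := he.mono
  have hm' : Mono e.left := inferInstance
  rw [IsClosedImmersion.iff_isProper_and_mono]
  refine ⟨?_, hm'⟩
  have h1 : UniversallyClosed e.left := by
    refine Groth.Agent.Ega2.DVRCriterion.universallyClosed_of_DVRExistence e.left ?_
    intro A _ _ _ x y hxy
    let str : Spec (CommRingCat.of A) ⟶ S := y ≫ T.hom
    let y' : Over.mk str ⟶ T := Over.homMk y rfl
    let j : Over.mk (Spec.map (CommRingCat.ofHom (algebraMap A (FractionRing A))) ≫ str) ⟶ Over.mk str :=
      Over.homMk (Spec.map (CommRingCat.ofHom (algebraMap A (FractionRing A)))) rfl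
    let x' : Over.mk (Spec.map (CommRingCat.ofHom (algebraMap A (FractionRing A))) ≫ str) ⟶ E :=
      Over.homMk x (by
        rw [← Over.w e, reassoc_of% hxy]; rfl)
    have hx' : x' ≫ e = j ≫ y' := by
      ext : 1
      exact hxy
    have key := H A str ((yon S).map y' ≫ a) ((yon S).map y' ≫ b) (by
      rw [Category.assoc, Category.assoc, hab]) (by
      have e1 : (yon S).map j ≫ (yon S).map y' = (yon S).map x' ≫ (yon S).map e := by
        rw [← Functor.map_comp, ← Functor.map_comp, hx']
      have e2 : ((yon S).map j ≫ (yon S).map y') ≫ a = ((yon S).map j ≫ (yon S).map y') ≫ b := by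
        rw [e1, Category.assoc, Category.assoc, he.w]
      exact (Category.assoc _ _ _).symm.trans (e2.trans (Category.assoc _ _ _)))
    obtain ⟨l, hl, -⟩ := he.lift _ y' key
    have hl' : l.left ≫ e.left = y := by
      rw [← Over.comp_left, hl]; rfl
    refine ⟨l.left, hl', ?_⟩
    rw [← cancel_mono e.left, Category.assoc, hl', hxy]
  exact {}

/-- A quasi-separated morphism locally of finite type to a locally Noetherian algebraic space is separated if it has the
uniqueness property for discrete valuation rings. -/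
theorem isSeparatedMor_of_dvrUniq (hX : IsAlgSpace X) (f : X ⟶ Y)
    (hqs : IsQuasiSeparatedMor f) (hft : LocP @LocallyOfFiniteType f) (hYn : IsLocNoethSp Y)
    (H : DvrUniq f) : IsSeparatedMor f := by
  obtain ⟨V, q, hq1, hq2, hV⟩ := hYn
  obtain ⟨U₀, p₀, hp₀⟩ := exists_ch hX
  -- the chart `U = U₀ ×_Y V`
  obtain ⟨U, c, k, sq⟩ := hq1.1 (p₀ ≫ f)
  obtain ⟨h, rfl⟩ := (yon S).map_surjective k
  have hc : EtC c := ⟨hq1.2 _ _ _ sq, hq2.2 _ _ _ sq⟩
  have hp : Ch ((yon S).map c ≫ p₀) := hp₀.comp hc
  have hw : ((yon S).map c ≫ p₀) ≫ f = (yon S).map h ≫ q := by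
    rw [Category.assoc]; exact sq.w.symm
  have hh : LocallyOfFiniteType h.left := hft _ _ _ hp.et hq1 hw
  -- `W = U ×_V U`
  let W : Over S := pullback h h
  have hW : IsLocallyNoetherian W.left := by
    have h1 : LocallyOfFiniteType ((pullback.fst h h) ≫ h).left := by
      have h2 : LocallyOfFiniteType (pullback.fst h h).left :=
        MorphismProperty.of_isPullback (P := @LocallyOfFiniteType)
          ((IsPullback.of_hasPullback h h).map (Over.forget S)).flip hh
      rw [Over.comp_left]
      infer_instance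
    exact LocallyOfFiniteType.isLocallyNoetherian ((pullback.fst h h) ≫ h).left
  let a : (yon S).obj W ⟶ X := (yon S).map (pullback.fst h h) ≫ (yon S).map c ≫ p₀
  let b : (yon S).obj W ⟶ X := (yon S).map (pullback.snd h h) ≫ (yon S).map c ≫ p₀
  have hab : a ≫ f = b ≫ f := by
    have h1 : (yon S).map (pullback.fst h h) ≫ (yon S).map h = (yon S).map (pullback.snd h h) ≫ (yon S).map h := by
      rw [← Functor.map_comp, ← Functor.map_comp, pullback.condition]
    simp only [a, b, Category.assoc] at hw ⊢
    rw [hw, reassoc_of% h1]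
  obtain ⟨E, e, he⟩ := (representable_diagonal_iff f).1 hqs.1 W a b hab
  have he1 : QuasiCompact e.left := prop_of_isEq hqs hab he
  have he2 : LocallyOfFiniteType e.left := prop_of_isEq (lft_diagonal hX f) hab he
  have he3 : IsClosedImmersion e.left := isClosedImmersion_isEq H hab he
  have hsq := isPullback_diagonal he f hab
  -- `W → X ×_Y X` is locally surjective
  have hF : FSurj (pullback.lift a b hab) := by
    intro T t
    obtain ⟨T₁, c₁, a₁, hc₁, ha₁⟩ := hp₀.eSurj T (t ≫ pullback.fst f f)
    obtain ⟨T₂, c₂, b₂, hc₂, hb₂⟩ := hp₀.eSurj T₁ ((yon S).map c₁ ≫ t ≫ pullback.snd f f)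
    obtain ⟨T₃, c₃, v₃, hc₃, hv₃⟩ := (ESurj.of_repWith hq1 hq2) T₂ ((yon S).map (c₂ ≫ c₁) ≫ t ≫ pullback.fst f f ≫ f)
    obtain ⟨a₁, rfl⟩ := (yon S).map_surjective a₁
    obtain ⟨b₂, rfl⟩ := (yon S).map_surjective b₂
    obtain ⟨v₃, rfl⟩ := (yon S).map_surjective v₃
    have hA : (yon S).map (c₃ ≫ c₂ ≫ a₁) ≫ p₀ = (yon S).map (c₃ ≫ c₂ ≫ c₁) ≫ t ≫ pullback.fst f f := by
      simp only [Functor.map_comp, Category.assoc, ha₁]
    have hB : (yon S).map (c₃ ≫ b₂) ≫ p₀ = (yon S).map (c₃ ≫ c₂ ≫ c₁) ≫ t ≫ pullback.snd f f := by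
      simp only [Functor.map_comp, Category.assoc, hb₂]
    obtain ⟨A', hA'⟩ := (yon S).map_surjective (sq.lift ((yon S).map v₃) ((yon S).map (c₃ ≫ c₂ ≫ a₁)) (by
      rw [hv₃, reassoc_of% hA]
      simp only [Functor.map_comp, Category.assoc]))
    obtain ⟨B', hB'⟩ := (yon S).map_surjective (sq.lift ((yon S).map v₃) ((yon S).map (c₃ ≫ b₂)) (by
      rw [hv₃, reassoc_of% hB, ← pullback.condition]
      simp only [Functor.map_comp, Category.assoc]))
    have hA1 : A' ≫ h = v₃ := by
      apply (yon S).map_injective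
      rw [Functor.map_comp, hA', sq.lift_fst]
    have hA2 : A' ≫ c = c₃ ≫ c₂ ≫ a₁ := by
      apply (yon S).map_injective
      rw [Functor.map_comp, hA', sq.lift_snd]
    have hB1 : B' ≫ h = v₃ := by
      apply (yon S).map_injective
      rw [Functor.map_comp, hB', sq.lift_fst]
    have hB2 : B' ≫ c = c₃ ≫ b₂ := by
      apply (yon S).map_injective
      rw [Functor.map_comp, hB', sq.lift_snd]
    refine ⟨T₃, c₃ ≫ c₂ ≫ c₁, (yon S).map (pullback.lift A' B' (hA1.trans hB1.symm)), ((hc₁.comp hc₂).comp hc₃).fpC, ?_⟩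
    apply pullback.hom_ext
    · rw [Category.assoc, pullback.lift_fst, Category.assoc]
      simp only [a]
      rw [← Category.assoc, ← Functor.map_comp, pullback.lift_fst, ← Category.assoc, ← Functor.map_comp, hA2, hA]
    · rw [Category.assoc, pullback.lift_snd, Category.assoc]
      simp only [b]
      rw [← Category.assoc, ← Functor.map_comp, pullback.lift_snd, ← Category.assoc, ← Functor.map_comp, hB2, hB]
  exact hF.repWith hsq hqs.1 ((repWith_yon_map_iff _ _).2 he3)

/-- For a separated morphism, two dotted arrows in a square over a domain `A` with fraction field `K` are equal. -/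
theorem eq_of_isSeparatedMor {f : X ⟶ Y} (h : IsSeparatedMor f) {A K : Type u} [CommRing A] [IsDomain A] [Field K]
    [Algebra A K] [IsFractionRing A K] {str : Spec (CommRingCat.of A) ⟶ S}
    {l l' : (yon S).obj (Over.mk str) ⟶ X} (h1 : l ≫ f = l' ≫ f)
    (h2 : (yon S).map (Over.homMk (U := Over.mk (Spec.map (CommRingCat.ofHom (algebraMap A K)) ≫ str))
        (V := Over.mk str) (Spec.map (CommRingCat.ofHom (algebraMap A K))) rfl) ≫ l =
      (yon S).map (Over.homMk (U := Over.mk (Spec.map (CommRingCat.ofHom (algebraMap A K)) ≫ str))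
        (V := Over.mk str) (Spec.map (CommRingCat.ofHom (algebraMap A K))) rfl) ≫ l') : l = l' := by
  obtain ⟨E, e, he⟩ := (representable_diagonal_iff f).1 h.1 _ l l' h1
  have he1 : IsClosedImmersion e.left := prop_of_isEq h h1 he
  obtain ⟨k, hk, -⟩ := he.lift _ _ h2
  have hk' : k.left ≫ e.left = Spec.map (CommRingCat.ofHom (algebraMap A K)) := by
    rw [← Over.comp_left, hk]; rfl
  have hd : DenseRange (Spec.map (CommRingCat.ofHom (algebraMap A K))) := by
    refine (PrimeSpectrum.denseRange_comap_iff_ker_le_nilRadical (algebraMap A K)).2 ?_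
    rw [(RingHom.injective_iff_ker_eq_bot _).1 (IsFractionRing.injective A K)]
    exact bot_le
  have hs : Surjective e.left := by
    constructor
    have hcl : IsClosed (Set.range e.left) := e.left.isClosedEmbedding.isClosed_range
    rw [← Set.range_eq_univ, ← hcl.closure_eq]
    refine Set.eq_univ_of_univ_subset ?_
    rw [← hd.closure_range]
    refine closure_mono ?_
    rintro _ ⟨z, rfl⟩
    rw [← hk']
    exact ⟨k.left z, rfl⟩
  have hr : IsReduced (Over.mk str).left := inferInstanceAs (IsReduced (Spec (CommRingCat.of A)))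
  have hi : IsIso e.left := isIso_of_isClosedImmersion_of_surjective e.left
  have hi2 : IsIso ((Over.forget S).map e) := hi
  have hi3 : IsIso e := isIso_of_reflects_iso e (Over.forget S)
  have : IsIso ((yon S).map e) := inferInstance
  rw [← cancel_epi ((yon S).map e)]
  exact he.w

theorem hasUniq_of_isSeparatedMor {f : X ⟶ Y} (h : IsSeparatedMor f) (sq : ValSq f) : sq.HasUniq := by
  intro l l' h1 h2 h3 h4
  exact eq_of_isSeparatedMor h (h2.trans h4.symm) (h1.trans h3.symm)

end K604.SepDvr
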