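import Groth.Agent.AlgSp.K604.LimFin
import Groth.Agent.S2154
import Groth.Agent.S0594

/-!
# Finiteness and closed immersions descend to a finite level
-/

set_option autoImplicit false
universe u

open CategoryTheory CategoryTheory.Limits AlgebraicGeometry Opposite

namespace K604.LimFin2

open AlgSp K600.LimSys K600.LimAff K613.Cover K613.Chart K613.Diag K604.LimSep K604.LimSep2 K604.LimSepY K604.LimAffY
open K604.LimFin

variable {S : Scheme.{u}} {I : Type u} [SmallCategory I] [IsCofiltered I] {D : I ⥤ Sp S}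

/-- Reduction to systems of affine schemes over an affine chart of the base. -/
theorem exists_reduction [QuasiSeparatedSpace ↥S] {Y : Sp S} (hY : IsAlgSpace Y) (hYqc : IsQuasiCompactSp Y)
    (hYqs : IsQuasiSeparatedSp Y)
    (hD : ∀ i, IsAlgSpace (D.obj i)) (hDa : ∀ (i j : I) (φ : i ⟶ j), IsAffineMor (D.map φ))
    (hqc : ∀ i, IsQuasiCompactSp (D.obj i)) (hqs : ∀ i, IsQuasiSeparatedSp (D.obj i))
    {c : Cone D} (hc : IsLimit c) (t : ∀ i, D.obj i ⟶ Y) (ht : ∀ {i j : I} (φ : i ⟶ j), D.map φ ≫ t j = t i)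
    (g : c.pt ⟶ Y) (hg : ∀ i, c.π.app i ≫ t i = g) (hX : IsAffineMor g) :
    ∃ (i : I) (U W V : Over S) (p : (yon S).obj U ⟶ D.obj i) (u : U ⟶ W) (w : (yon S).obj W ⟶ Y)
      (s : Sys D i p) (a : (yon S).obj V ⟶ c.pt) (b : V ⟶ U) (_ : IsPullback a ((yon S).map b) (c.π.app i) p),
      IsAffine W.left ∧ IsAffine V.left ∧ (∀ j, IsAffine (s.obj j).left) ∧ RepWith @Etale w ∧
      RepWith @Surjective w ∧ RepWith @Etale p ∧ RepWith @Surjective p ∧
      IsPullback a ((yon S).map (b ≫ u)) g w ∧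
      (∀ j, IsPullback (s.fst j) ((yon S).map (s.snd j ≫ u)) (t j.left) w) ∧
      (∀ j : Over i, IsAffineMor (t j.left)) := by
  obtain ⟨i, hi⟩ := exists_isAffineMor hY hYqc hYqs hD hDa hqc hqs hc t ht g hg hX
  obtain ⟨W, w, hW, hw, hws⟩ := exists_affine_chart hYqc
  obtain ⟨U, u, p, sqU, hU⟩ := hi i (𝟙 i) hW w
  have hp : RepWith @Etale p := (repWith_isStableUnderBaseChange (S := S) @Etale).of_isPullback sqU.flip hw
  have hps : RepWith @Surjective p := (repWith_isStableUnderBaseChange (S := S) @Surjective).of_isPullback sqU.flip hws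
  obtain ⟨s, V, a, b, hs, hV, sq⟩ := exists_sys_of_affine hDa hc hU p
  refine ⟨i, U, W, V, p, u, w, s, a, b, sq, hW, hV, hs, hw, hws, hp, hps, ?_, fun j => ?_, fun j => hi _ j.hom⟩
  · have := sq.paste_vert sqU
    rw [hg, ← Functor.map_comp] at this
    exact this
  · have := (s.sq j).paste_vert sqU
    rw [ht, ← Functor.map_comp] at this
    exact this

theorem exists_isFiniteMor [QuasiSeparatedSpace ↥S] {Y : Sp S} (hY : IsAlgSpace Y) (hYqc : IsQuasiCompactSp Y)
    (hYqs : IsQuasiSeparatedSp Y)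
    (hD : ∀ i, IsAlgSpace (D.obj i)) (hDf : ∀ (i j : I) (φ : i ⟶ j), IsFiniteMor (D.map φ))
    (hqc : ∀ i, IsQuasiCompactSp (D.obj i)) (hqs : ∀ i, IsQuasiSeparatedSp (D.obj i))
    {c : Cone D} (hc : IsLimit c) (t : ∀ i, D.obj i ⟶ Y) (ht : ∀ {i j : I} (φ : i ⟶ j), D.map φ ≫ t j = t i)
    (hft : ∀ i, LocP @LocallyOfFiniteType (t i))
    (g : c.pt ⟶ Y) (hg : ∀ i, c.π.app i ≫ t i = g) (hX : IsIntegralMor g) :
    ∃ i₀, ∀ i, (i ⟶ i₀) → IsFiniteMor (t i) := by
  obtain ⟨i, U, W, V, p, u, w, s, a, b, sq, hW, hV, hs, hw, hws, hp, hps, sqX, sqj, haff⟩ :=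
    exists_reduction hY hYqc hYqs hD (fun i j φ => isAffineMor_of_isFiniteMor (hDf i j φ)) hqc hqs hc t ht g hg
      (isAffineMor_of_isIntegralMor hX)
  haveI : IsAffine W.left := hW
  haveI : ∀ (j k : Over i) (f : j ⟶ k), IsFinite ((overFunctor s u).map f).left := fun j k f => by
    have h1 := K634.FiniteMor.isFiniteMor_iff.1 (hDf _ _ f.left)
    exact h1.2 _ _ _ (s.isPullback_map f)
  haveI : ∀ j, IsAffine ((overFunctor s u).obj j).left := fun j => hs j
  haveI : ∀ j, LocallyOfFiniteType ((overFunctor s u).obj j).hom := fun j => by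
    change LocallyOfFiniteType (s.snd j ≫ u).left
    exact hft j.left (s.fst j) w _ (repWith_fst s hp j) hw (sqj j).w
  haveI : IsIntegralHom (overCone s u sq).pt.hom := by
    change IsIntegralHom (b ≫ u).left
    exact (K634.FiniteMor.isIntegralMor_iff.1 hX).2 _ _ _ sqX
  obtain ⟨j₀, hj₀⟩ := Groth.Agent.S2154.result W.left (overFunctor s u) (overCone s u sq) (isLimitOverCone s u sq hc)
  have h1 : IsFiniteMor (t j₀.left) := by
    refine K634.FiniteMor.isFiniteMor_iff.2 ?_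
    have h2 : IsFinite (s.snd j₀ ≫ u).left := hj₀ j₀ (𝟙 _)
    exact (ESurj.of_repWith hw hws).fSurj.repWith (sqj j₀) (K597.Affine.repWith_of_isAffineMor (haff j₀)).1
      ((repWith_yon_map_iff _ _).2 h2)
  refine ⟨j₀.left, fun k φ => ?_⟩
  rw [← ht φ]
  refine K634.FiniteMor.isFiniteMor_iff.2 ((repWith_isMultiplicative (S := S) @IsFinite).comp_mem _ _
    (K634.FiniteMor.isFiniteMor_iff.1 (hDf _ _ φ)) (K634.FiniteMor.isFiniteMor_iff.1 h1))

theorem exists_isClosedImmersion [QuasiSeparatedSpace ↥S] {Y : Sp S} (hY : IsAlgSpace Y) (hYqc : IsQuasiCompactSp Y)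
    (hYqs : IsQuasiSeparatedSp Y)
    (hD : ∀ i, IsAlgSpace (D.obj i)) (hDc : ∀ (i j : I) (φ : i ⟶ j), RepWith @IsClosedImmersion (D.map φ))
    (hqc : ∀ i, IsQuasiCompactSp (D.obj i)) (hqs : ∀ i, IsQuasiSeparatedSp (D.obj i))
    {c : Cone D} (hc : IsLimit c) (t : ∀ i, D.obj i ⟶ Y) (ht : ∀ {i j : I} (φ : i ⟶ j), D.map φ ≫ t j = t i)
    (hft : ∀ i, LocP @LocallyOfFiniteType (t i))
    (g : c.pt ⟶ Y) (hg : ∀ i, c.π.app i ≫ t i = g) (hX : RepWith @IsClosedImmersion g) :
    ∃ i₀, ∀ i, (i ⟶ i₀) → RepWith @IsClosedImmersion (t i) := by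
  obtain ⟨i, U, W, V, p, u, w, s, a, b, sq, hW, hV, hs, hw, hws, hp, hps, sqX, sqj, haff⟩ :=
    exists_reduction hY hYqc hYqs hD (fun i j φ => isAffineMor_of_closed (hDc i j φ)) hqc hqs hc t ht g hg
      (isAffineMor_of_closed hX)
  haveI : IsAffine W.left := hW
  let F := overFunctor s u ⋙ Over.forget W.left
  let τ : F ⟶ (Functor.const (Over i)).obj W.left :=
    { app := fun j => ((overFunctor s u).obj j).hom
      naturality := fun j k f => by
        rw [Functor.const_obj_map]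
        exact (Over.w ((overFunctor s u).map f)).trans (Category.comp_id _).symm }
  haveI : ∀ (j k : Over i) (f : j ⟶ k), IsClosedImmersion (F.map f) := fun j k f =>
    (hDc _ _ f.left).2 _ _ _ (s.isPullback_map f)
  haveI : ∀ j, IsAffine (F.obj j) := fun j => hs j
  haveI : ∀ j, LocallyOfFiniteType (τ.app j) := fun j => by
    change LocallyOfFiniteType (s.snd j ≫ u).left
    exact hft j.left (s.fst j) w _ (repWith_fst s hp j) hw (sqj j).w
  let j₁ : Over i := Over.mk (𝟙 i)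
  let c₀ : Cone F := (Over.forget S).mapCone (s.cone sq)
  have hc₀ : IsLimit c₀ := s.isLimitConeLeft sq hc
  haveI : IsClosedImmersion (c₀.π.app j₁ ≫ τ.app j₁) := by
    have h1 : c₀.π.app j₁ ≫ τ.app j₁ = (b ≫ u).left := by
      change (s.proj sq j₁).left ≫ (s.snd j₁ ≫ u).left = _
      rw [← Over.comp_left, ← Category.assoc, s.proj_snd]
    rw [h1]
    exact hX.2 _ _ _ sqX
  obtain ⟨j₀, hj₀⟩ := Groth.Agent.S0594.result W.left F τ c₀ hc₀ j₁
  have h1 : RepWith @IsClosedImmersion (t j₀.left) := by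
    have h2 : IsClosedImmersion (s.snd j₀ ≫ u).left := hj₀
    exact (ESurj.of_repWith hw hws).fSurj.repWith (sqj j₀) (K597.Affine.repWith_of_isAffineMor (haff j₀)).1
      ((repWith_yon_map_iff _ _).2 h2)
  refine ⟨j₀.left, fun k φ => ?_⟩
  rw [← ht φ]
  exact (repWith_isMultiplicative (S := S) @IsClosedImmersion).comp_mem _ _ (hDc _ _ φ) h1

end K604.LimFin2
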