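import Groth.Agent.AlgSp.K604.LimAffY
import Groth.Agent.AlgSp.K634.FiniteMor
import Groth.Agent.Etbase.FpqcDescent

/-!
# Finiteness and closed immersions descend to a finite level: the pulled back system over an affine chart of the base
-/

set_option autoImplicit false
universe u

open CategoryTheory CategoryTheory.Limits AlgebraicGeometry Opposite

namespace K604.LimFin

open AlgSp K600.LimSys K600.LimAff K613.Cover K613.Chart K613.Diag K604.LimSep K604.LimSep2 K604.LimSepY K604.LimAffY

variable {S : Scheme.{u}} {I : Type u} [SmallCategory I] {D : I ⥤ Sp S} {i : I} {U W : Over S}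
  {p : (yon S).obj U ⟶ D.obj i} (s : Sys D i p) (u : U ⟶ W)

/-- The pulled back system as a system of schemes over `W`. -/
noncomputable def overFunctor : Over i ⥤ Over W.left where
  obj j := Over.mk (s.snd j ≫ u).left
  map {j k} f := Over.homMk (s.W.map f).left (by
    change (s.tr f).left ≫ (s.snd k ≫ u).left = (s.snd j ≫ u).left
    rw [← Over.comp_left, ← Category.assoc, s.tr_snd])
  map_id j := by
    ext : 1
    change (s.W.map (𝟙 j)).left = 𝟙 _
    rw [s.W.map_id]; rfl
  map_comp {j k l} f g := by
    ext : 1
    change (s.W.map (f ≫ g)).left = (s.W.map f).left ≫ (s.W.map g).left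
    rw [s.W.map_comp]; rfl

variable {c : Cone D} {V : Over S} {a : (yon S).obj V ⟶ c.pt} {b : V ⟶ U}
  (sq : IsPullback a ((yon S).map b) (c.π.app i) p)

noncomputable def overCone : Cone (overFunctor s u) where
  pt := Over.mk (b ≫ u).left
  π :=
    { app := fun j => Over.homMk (s.proj sq j).left (by
        change (s.proj sq j).left ≫ (s.snd j ≫ u).left = (b ≫ u).left
        rw [← Over.comp_left, ← Category.assoc, s.proj_snd])
      naturality := fun {j k} f => by
        ext : 1
        change 𝟙 _ ≫ (s.proj sq k).left = (s.proj sq j).left ≫ (s.W.map f).left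
        have h1 := congrArg Over.Hom.left ((s.cone sq).w f)
        rw [Category.id_comp]
        exact h1.symm }

noncomputable def isLimitOverCone [IsCofiltered I] (hc : IsLimit c) : IsLimit (overCone s u sq) := by
  have : IsConnected (Over i) := IsCofiltered.isConnected _
  have h1 : IsLimit ((Over.forget W.left).mapCone (overCone s u sq)) := s.isLimitConeLeft sq hc
  exact isLimitOfReflects (Over.forget W.left) h1

theorem isIntegralMor_iff' {X Y : Sp S} {f : X ⟶ Y} : IsIntegralMor f ↔ RepWith @IsIntegralHom f :=
  K634.FiniteMor.isIntegralMor_iff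

theorem isAffineMor_of_closed {X Y : Sp S} {f : X ⟶ Y} (h : RepWith @IsClosedImmersion f) : IsAffineMor f :=
  K597.Affine.isAffineMor_of_repWith ⟨h.1, fun T V g fst snd sq => by
    have : IsClosedImmersion snd.left := h.2 g fst snd sq
    change IsAffineHom snd.left
    infer_instance⟩

theorem isFiniteMor_of_closed {X Y : Sp S} {f : X ⟶ Y} (h : RepWith @IsClosedImmersion f) : IsFiniteMor f :=
  K634.FiniteMor.isFiniteMor_iff.2 ⟨h.1, fun T V g fst snd sq => by
    have : IsClosedImmersion snd.left := h.2 g fst snd sq
    change IsFinite snd.left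
    infer_instance⟩

theorem isAffineMor_of_isFiniteMor {X Y : Sp S} {f : X ⟶ Y} (h : IsFiniteMor f) : IsAffineMor f :=
  fun Z hZ g => by
    obtain ⟨W, i, fst, sq, hW, -⟩ := h hZ g
    exact ⟨W, i, fst, sq, hW⟩

theorem isAffineMor_of_isIntegralMor {X Y : Sp S} {f : X ⟶ Y} (h : IsIntegralMor f) : IsAffineMor f :=
  fun Z hZ g => by
    obtain ⟨W, i, fst, sq, hW, -⟩ := h hZ g
    exact ⟨W, i, fst, sq, hW⟩

end K604.LimFin
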