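import Groth.Agent.AlgSp.K604.Approx2
import Groth.Agent.AlgSp.K604.LimFin
import Groth.Agent.AlgSp.K605.LimMor
import Groth.Agent.AlgSp.K636.QcqsOver
import Groth.Agent.S10011

/-!
# Approximation of integral morphisms, keeping an open part fixed: one stage
-/

set_option autoImplicit false
universe u

open CategoryTheory CategoryTheory.Limits AlgebraicGeometry Opposite

namespace K604.Approx

open AlgSp K598.ClFam K598.Charts K598.RepKit K598.Site K604.LimFin K604.LimSep2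

variable {S : Scheme.{u}} {F G H P Q X Y Z : Sp S}

/-- The statement of S10035 over `S`: closed subspaces are limits of closed subspaces of finite presentation. -/
def ClosedApprox (S : Scheme.{u}) : Prop :=
  ∀ {X Y : AlgSp.Space S} (f : X ⟶ Y), AlgSp.RepWith @IsClosedImmersion f.hom → AlgSp.IsQuasiCompactSp Y.obj →
    AlgSp.IsQuasiSeparatedSp Y.obj →
    ∃ (I : Type u) (_ : Preorder I) (_ : IsDirected I (fun a b => a ≤ b)) (_ : Nonempty I) (D : Iᵒᵖ ⥤ AlgSp.Sp S)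
      (t : D ⟶ (Functor.const Iᵒᵖ).obj Y.obj) (c : Cone D) (_ : IsLimit c) (e : c.pt ≅ X.obj),
      (∀ i, AlgSp.IsAlgSpace (D.obj i)) ∧ (∀ (i j : Iᵒᵖ) (φ : i ⟶ j), AlgSp.RepWith @IsClosedImmersion (D.map φ)) ∧
      (∀ i, AlgSp.RepWith @IsClosedImmersion (t.app i) ∧ AlgSp.IsFinitePresentationMor (t.app i)) ∧ (∀ i, e.inv ≫ c.π.app i ≫ t.app i = f.hom)

theorem isQuasiSeparatedMor_of_isAffineMor {f : X ⟶ Y} (hf : IsAffineMor f) : IsQuasiSeparatedMor f :=
  K597.repWith_mono (fun _ _ f (_ : IsClosedImmersion f) => (inferInstance : QuasiCompact f))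
    (isSeparatedMor_of_isAffineMor hf)

theorem isFinitePresentationMor_of_isFiniteMor (hX : IsAlgSpace X) (hY : IsAlgSpace Y) {f : X ⟶ Y} (hf : IsFiniteMor f)
    (h : LocP @LocallyOfFinitePresentation f) : IsFinitePresentationMor f :=
  ⟨h, K605.LimImg.isQuasiCompactMor_of_isAffineMor hX hY (isAffineMor_of_isFiniteMor hf),
    isQuasiSeparatedMor_of_isAffineMor (isAffineMor_of_isFiniteMor hf)⟩

theorem locP_lft_of_closed {f : X ⟶ Y} (hf : RepWith @IsClosedImmersion f) : LocP @LocallyOfFiniteType f :=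
  K597.locP_of_repWith K597.etLoc_lft.precomp (K597.repWith_mono (fun _ _ f (_ : IsClosedImmersion f) =>
    (inferInstance : LocallyOfFiniteType f)) hf)

theorem locP_lft_of_finite {f : X ⟶ Y} (hf : IsFiniteMor f) : LocP @LocallyOfFiniteType f :=
  K597.locP_of_repWith K597.etLoc_lft.precomp (K597.repWith_mono (fun _ _ f (_ : IsFinite f) =>
    (inferInstance : LocallyOfFiniteType f)) (K634.FiniteMor.isFiniteMor_iff.1 hf))

/-- the base change of `a : X ⟶ Z` along the open subspace `j : V ⟶ Y` is an isomorphism. -/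
def IsoOver {X Y Z V PV : Sp S} (j : V ⟶ Y) (pv₁ : PV ⟶ X) (pv₂ : PV ⟶ V) (a : X ⟶ Z) (t : Z ⟶ Y) : Prop :=
  ∀ (Pi : Sp S) (q₁ : Pi ⟶ Z) (q₂ : Pi ⟶ V), IsPullback q₁ q₂ t j →
    ∀ k : PV ⟶ Pi, k ≫ q₁ = pv₁ ≫ a → k ≫ q₂ = pv₂ → IsIso k

/-- It suffices to have one pullback. -/
theorem IsoOver.of_one {X Y Z V PV : Sp S} {j : V ⟶ Y} {pv₁ : PV ⟶ X} {pv₂ : PV ⟶ V} {a : X ⟶ Z} {t : Z ⟶ Y}
    {Pi : Sp S} {q₁ : Pi ⟶ Z} {q₂ : Pi ⟶ V} (sq : IsPullback q₁ q₂ t j) (k : PV ⟶ Pi) [IsIso k] (h1 : k ≫ q₁ = pv₁ ≫ a)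
    (h2 : k ≫ q₂ = pv₂) : IsoOver j pv₁ pv₂ a t := by
  intro Pi' q₁' q₂' sq' k' h1' h2'
  have : k' = k ≫ (sq.isoIsPullback _ _ sq').hom := by
    apply sq'.hom_ext
    · rw [h1', Category.assoc, IsPullback.isoIsPullback_hom_fst, h1]
    · rw [h2', Category.assoc, IsPullback.isoIsPullback_hom_snd, h2]
  rw [this]
  infer_instance


/-- Over an open subspace where `g` is a closed immersion, the scheme theoretic image of `g` is the source. -/
theorem isIso_of_image_open (hG : IsAlgSpace G) {G' X' Z' : Sp S} (hG' : IsAlgSpace G') {g : X ⟶ G}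
    (hg : IsQuasiCompactMor g) {i : Z ⟶ G} (hi : IsSchImage g i) {b : G' ⟶ G} (hb : RepWith @IsOpenImmersion b)
    {a : X' ⟶ X} {g' : X' ⟶ G'} (sqf : IsPullback a g' g b) (hcl : RepWith @IsClosedImmersion g') {c : Z' ⟶ Z}
    {i' : Z' ⟶ G'} (sqi : IsPullback c i' i b) (k : X' ⟶ Z') (hk : k ≫ i' = g') : IsIso k := by
  have hbf : RepWith @Etale b := K597.repWith_mono (fun _ _ f (_ : IsOpenImmersion f) => (inferInstance : Etale f)) hb
  have h := K598.SchImg.isSchImage_of_isPullback hG hG' hg hi (b := b) (fun T q hq =>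
    repWith_flat_of_etale ((repWith_isMultiplicative (S := S) @Etale).comp_mem _ _ hq hbf)) sqf sqi
  have hX' : IsAlgSpace X' := isAlgSpace_of_repWith_isClosedImmersion hcl hG'
  obtain ⟨v, hv⟩ := h.2.2 g' hX' hcl ⟨𝟙 _, Category.id_comp _⟩
  have := mono_of_repWith_isClosedImmersion hcl
  have := mono_of_repWith_isClosedImmersion h.1
  refine ⟨v, ?_, ?_⟩
  · rw [← cancel_mono g', Category.assoc, hv, hk, Category.id_comp]
  · rw [← cancel_mono i', Category.assoc, hk, hv, Category.id_comp]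

/-- One stage of the approximation: `X ⟶ G` with `G` finite over `Y`, and `X ⟶ G` a closed immersion over the open
subspace `V` of `Y` over which `X` is of finite presentation. -/
theorem exists_stage (H : ClosedApprox S) {G Y V X : Space S} (hYqc : IsQuasiCompactSp Y.obj)
    (hYqs : IsQuasiSeparatedSp Y.obj) (j : V ⟶ Y) (hj : RepWith @IsOpenImmersion j.hom) (hVqc : IsQuasiCompactSp V.obj)
    (g : X ⟶ G) (hg : IsQuasiCompactMor g.hom) (t : G ⟶ Y) (ht : IsFiniteMor t.hom)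
    {PV : Sp S} (pv₁ : PV ⟶ X.obj) (pv₂ : PV ⟶ V.obj) (hPV : IsPullback pv₁ pv₂ (g.hom ≫ t.hom) j.hom)
    (hfp : LocP @LocallyOfFinitePresentation pv₂)
    {GV : Sp S} (b : GV ⟶ G.obj) (d : GV ⟶ V.obj) (sqG : IsPullback b d t.hom j.hom) (u : PV ⟶ GV)
    (hu₁ : u ≫ b = pv₁ ≫ g.hom) (hu₂ : u ≫ d = pv₂) (hcl : RepWith @IsClosedImmersion u) :
    ∃ (J : Type u) (_ : Nonempty J) (Z : J → Sp S) (z : ∀ μ, Z μ ⟶ G.obj) (a : ∀ μ, X.obj ⟶ Z μ),
      (∀ μ, IsAlgSpace (Z μ)) ∧ (∀ μ, RepWith @IsClosedImmersion (z μ)) ∧ (∀ μ, IsFinitePresentationMor (z μ)) ∧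
      (∀ μ, a μ ≫ z μ = g.hom) ∧ (∀ μ, IsoOver j.hom pv₁ pv₂ (a μ) (z μ ≫ t.hom)) ∧
      ∀ (C : Sp S) (γ : C ⟶ G.obj), RepWith @IsClosedImmersion γ → LocP @LocallyOfFinitePresentation γ →
        (∃ x, x ≫ γ = g.hom) → ∃ (μ : J) (y : Z μ ⟶ C), y ≫ γ = z μ := by
  obtain ⟨A, hA1, hA2, -⟩ := K598.SchImg.exists_image G.property hg
  have himg : IsSchImage g.hom A.ι := by
    refine (K598.SchImg.isSchImage_iff G.property _ _).2 ⟨A.repWith_ι, ?_, ?_⟩
    · rw [ofClosed_ι]; exact hA1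
    · rw [ofClosed_ι]; exact hA2
  have hZ : IsAlgSpace A.sheaf := A.isAlgSpace_sheaf G.property
  let Z₀ : Space S := ⟨A.sheaf, hZ⟩
  let i : Z₀ ⟶ G := ⟨A.ι⟩
  obtain ⟨ξ, hξ⟩ := himg.2.1
  have htaff : IsAffineMor t.hom := isAffineMor_of_isFiniteMor ht
  have hGqc : IsQuasiCompactSp G.obj := K636.QcqsOver.isQuasiCompactSp_of_mor
    (K605.LimImg.isQuasiCompactMor_of_isAffineMor G.property Y.property htaff) Y.property hYqc
  have hGqs : IsQuasiSeparatedSp G.obj := K636.QcqsOver.isQuasiSeparatedSp_of_mor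
    (isQuasiSeparatedMor_of_isAffineMor htaff) hYqs
  obtain ⟨J, _, _, _, D, τ, c, hc, e, hD, hDc, hτ, he⟩ := H i A.repWith_ι hGqc hGqs
  -- over V
  have hb : RepWith @IsOpenImmersion b := repWith_of_isPullback sqG.flip hj
  have hGV : IsAlgSpace GV := isAlgSpace_of_repWith_isOpenImmersion hb G.property
  have hdfin : IsFiniteMor d := K634.FiniteMor.isFiniteMor_iff.2
    (repWith_of_isPullback sqG (K634.FiniteMor.isFiniteMor_iff.1 ht))
  have hGVqc : IsQuasiCompactSp GV := K636.QcqsOver.isQuasiCompactSp_of_mor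
    (K605.LimImg.isQuasiCompactMor_of_isAffineMor hGV V.property (isAffineMor_of_isFiniteMor hdfin)) V.property hVqc
  have : IsConnected Jᵒᵖ := IsCofiltered.isConnected _
  have hw : ∀ ⦃i j : Jᵒᵖ⦄ (φ : i ⟶ j), D.map φ ≫ τ.app j = τ.app i := fun i j φ => by
    rw [τ.naturality]; exact Category.comp_id _
  have he' : ∀ k, c.π.app k ≫ τ.app k = e.hom ≫ A.ι := fun k => by
    have h1 : e.inv ≫ c.π.app k ≫ τ.app k = A.ι := he k
    rw [← h1, e.hom_inv_id_assoc]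
  obtain ⟨D', α, β, c', hc', a₀, b₀, sqD, hα, sqc, hca, hcb⟩ :=
    K604.LimSepY.exists_bc_system b (fun k => τ.app k) hw hc (e.hom ≫ A.ι) he'
  have hβ : ∀ k, RepWith @IsClosedImmersion (β.app k) := fun k => repWith_of_isPullback (sqD k).flip (hτ k).1
  have hD' : ∀ k, IsAlgSpace (D'.obj k) := fun k => isAlgSpace_of_repWith_isClosedImmersion (hβ k) hGV
  have sqf : IsPullback pv₁ u g.hom b := by
    refine (IsPullback.of_right ?_ hu₁ sqG.flip).flip
    rw [hu₂]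
    exact hPV.flip
  have sqc' : IsPullback (a₀ ≫ e.hom) b₀ A.ι b := by
    refine IsPullback.flip (IsPullback.of_iso sqc (Iso.refl _) (Iso.refl _) e (Iso.refl _) ?_ ?_ ?_ ?_)
    · simp
    · simp
    · simp
    · simp
  have hk₀ : u ≫ b = (pv₁ ≫ ξ ≫ e.inv) ≫ e.hom ≫ A.ι := by
    rw [Category.assoc, Category.assoc, e.inv_hom_id_assoc, hξ, hu₁]
  let k₀ : PV ⟶ c'.pt := sqc.lift u (pv₁ ≫ ξ ≫ e.inv) hk₀
  have hk₀iso : IsIso k₀ := isIso_of_image_open G.property hGV hg himg hb sqf hcl sqc' k₀ (sqc.lift_fst _ _ _)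
  let t' : D' ⟶ (Functor.const Jᵒᵖ).obj V.obj := β ≫ (Functor.const _).map d
  obtain ⟨j₀⟩ := ‹Nonempty J›
  have hLFP : LocP @LocallyOfFinitePresentation (c'.π.app (op j₀) ≫ t'.app (op j₀)) := by
    have h1 : c'.π.app (op j₀) ≫ t'.app (op j₀) = inv k₀ ≫ pv₂ := by
      rw [IsIso.eq_inv_comp]
      change k₀ ≫ c'.π.app (op j₀) ≫ β.app (op j₀) ≫ d = _
      rw [← Category.assoc (c'.π.app _), hcb, ← Category.assoc]
      change (sqc.lift _ _ _ ≫ b₀) ≫ _ = _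
      rw [sqc.lift_fst, hu₂]
    rw [h1]
    exact K597.locP_precomp (repWith_of_isIso _) hfp
  obtain ⟨i₀, hi₀⟩ := Groth.Agent.S10011.result S V D' hD' t' (fun i j φ => repWith_of_isPullback (hα φ).flip (hDc _ _ φ))
    c' hc' (fun k => K636.QcqsOver.isQuasiCompactSp_of_mor (K605.LimImg.isQuasiCompactMor_of_isAffineMor (hD' k) hGV
      (isAffineMor_of_closed (hβ k))) hGV hGVqc)
    (fun k => locP_lft_of_finite (K636.QcqsOver.isFiniteMor_closed_comp (hβ k) hdfin)) (op j₀) hLFP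
  refine ⟨{μ : J // i₀.unop ≤ μ}, ⟨⟨i₀.unop, le_rfl⟩⟩, fun μ => D.obj (op μ.1), fun μ => τ.app (op μ.1),
    fun μ => ξ ≫ e.inv ≫ c.π.app (op μ.1), fun μ => hD _, fun μ => (hτ _).1, fun μ => (hτ _).2, fun μ => ?_,
    fun μ => ?_, fun C γ hγ hγ' hx => ?_⟩
  · rw [Category.assoc, Category.assoc]
    have := he (op μ.1)
    rw [this]
    exact hξ
  · have h1 := hi₀ (op μ.1) (homOfLE μ.2).op
    refine IsoOver.of_one (Pi := D'.obj (op μ.1)) (q₁ := α.app _) (q₂ := β.app _ ≫ d)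
      ((sqD (op μ.1)).paste_horiz sqG.flip).flip (k₀ ≫ c'.π.app (op μ.1)) ?_ ?_
    · rw [Category.assoc, hca, ← Category.assoc]
      change (sqc.lift _ _ _ ≫ a₀) ≫ _ = _
      rw [sqc.lift_snd]
      simp only [Category.assoc]
    · rw [Category.assoc, ← Category.assoc (c'.π.app _), hcb, ← Category.assoc]
      change (sqc.lift _ _ _ ≫ b₀) ≫ _ = _
      rw [sqc.lift_fst, hu₂]
  · obtain ⟨k, hk⟩ := himg.2.2 γ (isAlgSpace_of_repWith_isClosedImmersion hγ G.property) hγ hx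
    obtain ⟨j₁, a₁, ha₁⟩ := exists_stage_of_closed G.property hGqc D τ (fun j => (hτ j).1) c hc γ hγ hγ'
      (fun j => ⟨e.hom ≫ k, by rw [Category.assoc, hk, he']⟩)
    obtain ⟨μ, h1, h2⟩ := exists_ge_ge i₀.unop j₁.unop
    refine ⟨⟨μ, h1⟩, D.map (homOfLE h2).op ≫ a₁, ?_⟩
    rw [Category.assoc, ha₁]
    exact hw _

end K604.Approx
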