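import Groth.Agent.AlgSp.K604.LimSepY
import Groth.Agent.AlgSp.K598.SchImg2
import Groth.Agent.AlgSp.K597.EtLoc
import Groth.Agent.AlgSp.K597.LocP

/-!
# Closed subspaces of finite presentation and limits of closed subspaces
-/

set_option autoImplicit false
universe u

open CategoryTheory CategoryTheory.Limits AlgebraicGeometry Opposite

namespace K604.Approx

open AlgSp K598.ClFam K598.Charts K598.RepKit K598.Site

variable {S : Scheme.{u}} {F G H P Q X Y Z : Sp S}

/-- A finitely generated ideal contained in a directed supremum. -/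
theorem exists_le_of_fg {W : Scheme.{u}} [IsAffine W] {J : Type*} [Preorder J] [IsDirected J (· ≤ ·)] [Nonempty J]
    (A : J → W.IdealSheafData) (hA : Monotone A) (B : W.IdealSheafData)
    (hB : (B.ideal ⟨⊤, isAffineOpen_top W⟩).FG) (h : B ≤ ⨆ j, A j) : ∃ j, B ≤ A j := by
  have h1 : B.ideal ⟨⊤, isAffineOpen_top W⟩ ≤ ⨆ j, (A j).ideal ⟨⊤, isAffineOpen_top W⟩ := by
    refine (h _).trans ?_
    rw [Scheme.IdealSheafData.ideal_iSup, iSup_apply]
  have h2 := (Submodule.fg_iff_compact _).1 hB
  rw [CompleteLattice.isCompactElement_iff_le_of_directed_sSup_le] at h2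
  obtain ⟨_, ⟨j, rfl⟩, hj⟩ := h2 (Set.range fun j => (A j).ideal ⟨⊤, isAffineOpen_top W⟩) (Set.range_nonempty _)
    (by
      rintro _ ⟨j, rfl⟩ _ ⟨k, rfl⟩
      obtain ⟨l, hjl, hkl⟩ := exists_ge_ge j k
      exact ⟨_, ⟨l, rfl⟩, hA hjl _, hA hkl _⟩) (by rw [sSup_range]; exact h1)
  exact ⟨j, Scheme.IdealSheafData.le_of_isAffine hj⟩

/-- The kernel of a closed immersion of finite presentation is finitely generated. -/
theorem fg_ker {A W : Scheme.{u}} [IsAffine W] (f : A ⟶ W) [IsClosedImmersion f] [LocallyOfFinitePresentation f] :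
    (f.ker.ideal ⟨⊤, isAffineOpen_top W⟩).FG := by
  have hA : IsAffine A := isAffine_of_isAffineHom f
  rw [Scheme.ker_of_isAffine, Scheme.IdealSheafData.ofIdealTop_ideal]
  have h1 : f.appTop.hom.FinitePresentation := by
    have := LocallyOfFinitePresentation.finitePresentation_appLE (f := f) (isAffineOpen_top W) (isAffineOpen_top A) le_top
    simpa [Scheme.Hom.appLE] using this
  have h2 : Function.Surjective f.appTop.hom := (IsClosedImmersion.isAffine_surjective_of_isAffine f).2
  refine Ideal.FG.map ?_ _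
  algebraize [f.appTop.hom]
  exact Algebra.FinitePresentation.ker_fG_of_surjective (Algebra.ofId Γ(W, ⊤) Γ(A, ⊤)) h2


/-- A closed subspace of finite presentation of a quasi-compact space which contains the limit of a directed system of
closed subspaces contains one of them. -/
theorem exists_stage_of_closed (hG : IsAlgSpace G) (hGqc : IsQuasiCompactSp G) {J : Type u} [Preorder J]
    [IsDirected J (fun a b => a ≤ b)] [Nonempty J] (D : Jᵒᵖ ⥤ Sp S) (t : D ⟶ (Functor.const Jᵒᵖ).obj G)
    (ht : ∀ j, RepWith @IsClosedImmersion (t.app j)) (c : Cone D) (hc : IsLimit c) {C : Sp S} (γ : C ⟶ G)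
    (hγ : RepWith @IsClosedImmersion γ) (hγ' : LocP @LocallyOfFinitePresentation γ)
    (h : ∀ j, ∃ a : c.pt ⟶ C, a ≫ γ = c.π.app j ≫ t.app j) : ∃ (j : Jᵒᵖ) (a : D.obj j ⟶ C), a ≫ γ = t.app j := by
  obtain ⟨W, w, hW, hw, hws⟩ := K600.LimAff.exists_affine_chart hGqc
  have hp := ChartFam.single hw hws
  let A : J → W.left.IdealSheafData := fun j => (ofClosed (t.app (op j)) (ht _)).I w
  have hA : Monotone A := fun j k hjk => by
    refine (exists_hom_iff_le (ht (op k)) (ht (op j))).1 ⟨D.map (homOfLE hjk).op, ?_⟩ W w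
    rw [t.naturality]
    exact Category.comp_id _
  let B : W.left.IdealSheafData := (ofClosed γ hγ).I w
  have hB : (B.ideal ⟨⊤, isAffineOpen_top W.left⟩).FG := by
    have hrep : RepWith @LocallyOfFinitePresentation γ := K597.repWith_of_locP K597.etLoc_lfp hG.atlas hγ.1 hγ'
    have sq := hγ.1.isPullback w
    have h1 : IsClosedImmersion (hγ.1.snd w).left := hγ.2 _ _ _ sq
    have h2 : LocallyOfFinitePresentation (hγ.1.snd w).left := hrep.2 _ _ _ sq
    exact fg_ker (hγ.1.snd w).left
  obtain ⟨j, hj⟩ := exists_le_of_fg A hA B hB (by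
    let I' : W.left.IdealSheafData := ⨆ j, A j
    let T : Over S := Over.mk (I'.subschemeι ≫ W.hom)
    let s : T ⟶ W := Over.homMk I'.subschemeι rfl
    have hk : ∀ j : Jᵒᵖ, ∃ k : (yon S).obj T ⟶ D.obj j, k ≫ t.app j = (yon S).map s ≫ w := fun j => by
      refine (factors_yon_iff (ht j) _).2 ?_
      rw [(ofClosed (t.app j) (ht j)).comap, ← le_ker_iff]
      change A j.unop ≤ (I'.subschemeι).ker
      rw [Scheme.IdealSheafData.ker_subschemeι]
      exact le_iSup A j.unop
    choose k hk using hk
    let cT : Cone D :=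
      { pt := (yon S).obj T
        π :=
          { app := k
            naturality := fun i j f => by
              have := mono_of_repWith_isClosedImmersion (ht j)
              have h1 : D.map f ≫ t.app j = t.app i := by rw [t.naturality]; exact Category.comp_id _
              change 𝟙 _ ≫ k j = k i ≫ D.map f
              rw [Category.id_comp, ← cancel_mono (t.app j), hk, Category.assoc, h1, hk] } }
    obtain ⟨j₀⟩ := ‹Nonempty J›
    obtain ⟨a, ha⟩ := h (op j₀)
    have h2 : (ofClosed γ hγ).I ((yon S).map s ≫ w) = ⊥ := by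
      refine (factors_yon_iff hγ _).1 ⟨hc.lift cT ≫ a, ?_⟩
      rw [Category.assoc, ha, ← Category.assoc, hc.fac]
      exact hk _
    rw [(ofClosed γ hγ).comap, ← le_ker_iff] at h2
    have h3 : s.left.ker = I' := Scheme.IdealSheafData.ker_subschemeι _
    rw [h3] at h2
    exact h2)
  refine ⟨op j, ?_⟩
  exact (exists_hom_iff_le (ht (op j)) hγ).2 (hp.le_of_le fun _ => hj)

end K604.Approx
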