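import Groth.Agent.AlgSp.K604.Approx1

/-!
# Amalgamation of subobjects of the stages of a directed system
-/

set_option autoImplicit false
universe u

open CategoryTheory CategoryTheory.Limits AlgebraicGeometry Opposite

namespace K604.Approx

open AlgSp

variable {S : Scheme.{u}}

/-- A family of subobjects of the stages of a directed system, each containing the limit. -/
structure Amal {I : Type u} [Preorder I] (D : Iᵒᵖ ⥤ Sp S) (c : Cone D) where
  /-- indices -/
  J : Type u
  /-- stage -/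
  l : J → I
  /-- the subobject -/
  Z : J → Sp S
  /-- its inclusion -/
  z : ∀ j, Z j ⟶ D.obj (op (l j))
  mono : ∀ j, Mono (z j)
  /-- the map from the limit -/
  a : ∀ j, c.pt ⟶ Z j
  ha : ∀ j, a j ≫ z j = c.π.app (op (l j))

namespace Amal

variable {I : Type u} [Preorder I] {D : Iᵒᵖ ⥤ Sp S} {c : Cone D} (A : Amal D c)

/-- The preorder on the indices. -/
instance instPreorder : Preorder A.J where
  le j j' := ∃ (h : A.l j ≤ A.l j') (φ : A.Z j' ⟶ A.Z j), φ ≫ A.z j = A.z j' ≫ D.map (homOfLE h).op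
  le_refl j := ⟨le_rfl, 𝟙 _, by
    rw [Category.id_comp, Subsingleton.elim (homOfLE (le_refl (A.l j))) (𝟙 _), op_id, D.map_id, Category.comp_id]⟩
  le_trans j₁ j₂ j₃ := by
    rintro ⟨h, φ, hφ⟩ ⟨h', ψ, hψ⟩
    refine ⟨h.trans h', ψ ≫ φ, ?_⟩
    rw [Category.assoc, hφ, ← Category.assoc, hψ, Category.assoc, ← D.map_comp, ← op_comp]
    rfl

theorem le_def {j j' : A.J} : j ≤ j' ↔ ∃ (h : A.l j ≤ A.l j') (φ : A.Z j' ⟶ A.Z j),
    φ ≫ A.z j = A.z j' ≫ D.map (homOfLE h).op := Iff.rfl

theorem exists_map {j j' : (A.J)ᵒᵖ} (f : j ⟶ j') : ∃ φ : A.Z j.unop ⟶ A.Z j'.unop,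
    φ ≫ A.z j'.unop = A.z j.unop ≫ D.map (homOfLE (A.le_def.1 (leOfHom f.unop)).choose).op :=
  (A.le_def.1 (leOfHom f.unop)).choose_spec

/-- The transition maps. -/
noncomputable def map {j j' : (A.J)ᵒᵖ} (f : j ⟶ j') : A.Z j.unop ⟶ A.Z j'.unop := (A.exists_map f).choose

theorem map_z {j j' : (A.J)ᵒᵖ} (f : j ⟶ j') (h : A.l j'.unop ≤ A.l j.unop) :
    A.map f ≫ A.z j'.unop = A.z j.unop ≫ D.map (homOfLE h).op := (A.exists_map f).choose_spec

/-- The system of the subobjects. -/
noncomputable def F : (A.J)ᵒᵖ ⥤ Sp S where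
  obj j := A.Z j.unop
  map f := A.map f
  map_id j := by
    have := A.mono j.unop
    rw [← cancel_mono (A.z j.unop), A.map_z _ le_rfl, Category.id_comp,
      Subsingleton.elim (homOfLE (le_refl (A.l j.unop))) (𝟙 _), op_id, D.map_id, Category.comp_id]
  map_comp {j₁ j₂ j₃} f g := by
    have := A.mono j₃.unop
    have h1 := (A.le_def.1 (leOfHom f.unop)).choose
    have h2 := (A.le_def.1 (leOfHom g.unop)).choose
    rw [← cancel_mono (A.z j₃.unop), A.map_z _ (h2.trans h1), Category.assoc, A.map_z _ h2, ← Category.assoc,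
      A.map_z _ h1, Category.assoc, ← D.map_comp, ← op_comp]
    rfl

/-- The cone with vertex the original limit. -/
noncomputable def cone : Cone A.F where
  pt := c.pt
  π :=
    { app := fun j => A.a j.unop
      naturality := fun j j' f => by
        have := A.mono j'.unop
        have h1 := (A.le_def.1 (leOfHom f.unop)).choose
        change 𝟙 _ ≫ A.a j'.unop = A.a j.unop ≫ A.map f
        rw [Category.id_comp, ← cancel_mono (A.z j'.unop), A.ha, Category.assoc, A.map_z _ h1, ← Category.assoc,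
          A.ha, c.w] }

/-- The maps of a cone to the stages. -/
theorem comp_eq [IsDirected A.J (fun a b => a ≤ b)] (s : Cone A.F) {i : I} {j j' : A.J} (h : i ≤ A.l j)
    (h' : i ≤ A.l j') : s.π.app (op j) ≫ A.z j ≫ D.map (homOfLE h).op =
      s.π.app (op j') ≫ A.z j' ≫ D.map (homOfLE h').op := by
  have aux : ∀ {j k : A.J} (h : i ≤ A.l j) (hjk : j ≤ k) (hk : i ≤ A.l k),
      s.π.app (op j) ≫ A.z j ≫ D.map (homOfLE h).op = s.π.app (op k) ≫ A.z k ≫ D.map (homOfLE hk).op := by
    intro j k h hjk hk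
    have h1 : s.π.app (op j) = s.π.app (op k) ≫ A.map (homOfLE hjk).op := (s.w (homOfLE hjk).op).symm
    have h2 := (A.le_def.1 hjk).choose
    have h3 := A.map_z (homOfLE hjk).op h2
    change A.map (homOfLE hjk).op ≫ A.z j = A.z k ≫ _ at h3
    have h4 : A.map (homOfLE hjk).op ≫ A.z j ≫ D.map (homOfLE h).op = A.z k ≫ D.map (homOfLE hk).op := by
      rw [← Category.assoc, h3, Category.assoc, ← D.map_comp, ← op_comp]
      rfl
    rw [h1]
    change (s.π.app (op k) ≫ A.map (homOfLE hjk).op) ≫ _ = _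
    rw [Category.assoc]
    exact congrArg (s.π.app (op k) ≫ ·) h4
  obtain ⟨k, hjk, hjk'⟩ := exists_ge_ge (α := A.J) j j'
  have hk : i ≤ A.l k := h.trans (A.le_def.1 hjk).choose
  rw [aux (j := j) h hjk hk, aux (j := j') h' hjk' hk]

/-- The amalgamated system has the same limit. -/
theorem isLimit [IsDirected A.J (fun a b => a ≤ b)] (hc : IsLimit c) (hcof : ∀ i : I, ∃ j, i ≤ A.l j) :
    Nonempty (IsLimit A.cone) := by
  choose k hk using hcof
  let t (s : Cone A.F) : Cone D :=
    { pt := s.pt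
      π :=
        { app := fun i => s.π.app (op (k i.unop)) ≫ A.z (k i.unop) ≫ D.map (homOfLE (hk i.unop)).op
          naturality := fun i i' f => by
            change 𝟙 _ ≫ _ = _ ≫ D.map f
            rw [Category.id_comp, Category.assoc, Category.assoc, ← D.map_comp]
            exact A.comp_eq s _ ((leOfHom f.unop).trans (hk i.unop)) } }
  refine ⟨IsLimit.mk (fun s => hc.lift (t s)) (fun s j => ?_) fun s m hm => ?_⟩
  · have := A.mono j.unop
    change hc.lift (t s) ≫ A.a j.unop = _
    rw [← cancel_mono (A.z j.unop), Category.assoc, A.ha, hc.fac]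
    change s.π.app (op (k _)) ≫ A.z (k _) ≫ D.map (homOfLE _).op = _
    rw [A.comp_eq s (hk _) (le_refl (A.l j.unop)), Subsingleton.elim (homOfLE (le_refl (A.l j.unop))) (𝟙 _), op_id,
      D.map_id, Category.comp_id]
    rfl
  · refine hc.hom_ext fun i => ?_
    rw [hc.fac]
    change m ≫ c.π.app i = s.π.app (op (k _)) ≫ A.z (k _) ≫ D.map (homOfLE _).op
    have h1 : A.a (k i.unop) ≫ A.z (k i.unop) ≫ D.map (homOfLE (hk i.unop)).op = c.π.app i := by
      rw [← Category.assoc, A.ha, c.w]
    rw [← hm, ← h1]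
    exact (Category.assoc _ _ _).symm

end Amal

end K604.Approx
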