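import Groth.Agent.AlgSp.K604.Approx3
import Groth.Agent.S10009
import Groth.Agent.S9944

/-!
# Approximation of integral morphisms, keeping an open part fixed
-/

set_option autoImplicit false
universe u

open CategoryTheory CategoryTheory.Limits AlgebraicGeometry Opposite

namespace K604.Approx

open AlgSp K598.ClFam K598.Charts K598.RepKit K598.Site K604.LimFin K604.LimSep2

variable {S : Scheme.{u}}

/-- The statement of S10033 over `S`: integral morphisms are limits of finite morphisms of finite presentation. -/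
def IntApprox (S : Scheme.{u}) : Prop :=
  ∀ {X Y : AlgSp.Space S} (f : X ⟶ Y), AlgSp.IsIntegralMor f.hom → AlgSp.IsQuasiCompactSp Y.obj →
    AlgSp.IsQuasiSeparatedSp Y.obj →
    ∃ (I : Type u) (_ : Preorder I) (_ : IsDirected I (fun a b => a ≤ b)) (_ : Nonempty I) (D : Iᵒᵖ ⥤ AlgSp.Sp S)
      (t : D ⟶ (Functor.const Iᵒᵖ).obj Y.obj) (c : Cone D) (_ : IsLimit c) (e : c.pt ≅ X.obj),
      (∀ i, AlgSp.IsAlgSpace (D.obj i)) ∧ (∀ (i j : Iᵒᵖ) (φ : i ⟶ j), AlgSp.IsAffineMor (D.map φ)) ∧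
      (∀ i, AlgSp.IsFiniteMor (t.app i) ∧ AlgSp.IsFinitePresentationMor (t.app i)) ∧ (∀ i, e.inv ≫ c.π.app i ≫ t.app i = f.hom)

theorem main [QuasiSeparatedSpace S] (H33 : IntApprox S) (H35 : ClosedApprox S)
    {X Y : AlgSp.Space S} (f : X ⟶ Y) (hf : AlgSp.IsIntegralMor f.hom)
    (hYqc : AlgSp.IsQuasiCompactSp Y.obj) (hYqs : AlgSp.IsQuasiSeparatedSp Y.obj)
    (V : AlgSp.Space S) (j : V ⟶ Y) (hj : AlgSp.RepWith @IsOpenImmersion j.hom) (hVqc : AlgSp.IsQuasiCompactSp V.obj)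
    (PV : AlgSp.Sp S) (pv₁ : PV ⟶ X.obj) (pv₂ : PV ⟶ V.obj) (hPV : IsPullback pv₁ pv₂ f.hom j.hom)
    (hfin : AlgSp.IsFiniteMor pv₂) (hfp : AlgSp.IsFinitePresentationMor pv₂) :
    ∃ (I : Type u) (_ : Preorder I) (_ : IsDirected I (fun a b => a ≤ b)) (_ : Nonempty I) (D : Iᵒᵖ ⥤ AlgSp.Sp S)
      (t : D ⟶ (Functor.const Iᵒᵖ).obj Y.obj) (c : Cone D) (_ : IsLimit c) (e : c.pt ≅ X.obj),
      (∀ i, AlgSp.IsAlgSpace (D.obj i)) ∧ (∀ (i j : Iᵒᵖ) (φ : i ⟶ j), AlgSp.IsAffineMor (D.map φ)) ∧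
      (∀ i, AlgSp.IsFiniteMor (t.app i) ∧ AlgSp.IsFinitePresentationMor (t.app i)) ∧ (∀ i, e.inv ≫ c.π.app i ≫ t.app i = f.hom) ∧
      (∀ (i : Iᵒᵖ) (Pi : AlgSp.Sp S) (q₁ : Pi ⟶ D.obj i) (q₂ : Pi ⟶ V.obj), IsPullback q₁ q₂ (t.app i) j.hom →
        ∀ k : PV ⟶ Pi, k ≫ q₁ = pv₁ ≫ e.inv ≫ c.π.app i → k ≫ q₂ = pv₂ → IsIso k) := by
  obtain ⟨I, _, _, _, D, t, c, hc, e, hD, hDa, ht, he⟩ := H33 f hf hYqc hYqs
  have hPVa : IsAlgSpace PV := isAlgSpace_of_repWith_isOpenImmersion (repWith_of_isPullback hPV.flip hj) X.property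
  -- base change to V
  have : IsConnected Iᵒᵖ := IsCofiltered.isConnected _
  have hw : ∀ ⦃i j : Iᵒᵖ⦄ (φ : i ⟶ j), D.map φ ≫ t.app j = t.app i := fun i j φ => by
    rw [t.naturality]; exact Category.comp_id _
  have he' : ∀ k, c.π.app k ≫ t.app k = e.hom ≫ f.hom := fun k => by
    rw [← he k, e.hom_inv_id_assoc]
  obtain ⟨D', α, β, c', hc', a₀, b₀, sqD, hα, sqc, hca, hcb⟩ :=
    K604.LimSepY.exists_bc_system j.hom (fun k => t.app k) hw hc (e.hom ≫ f.hom) he'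
  have hβ : ∀ k, IsFiniteMor (β.app k) := fun k => K634.FiniteMor.isFiniteMor_iff.2
    (repWith_of_isPullback (sqD k).flip (K634.FiniteMor.isFiniteMor_iff.1 (ht k).1))
  have hD' : ∀ k, IsAlgSpace (D'.obj k) := fun k =>
    isAlgSpace_of_repWith_isOpenImmersion (repWith_of_isPullback (sqD k) hj) (hD k)
  have hk₀ : pv₂ ≫ j.hom = (pv₁ ≫ e.inv) ≫ e.hom ≫ f.hom := by
    rw [Category.assoc, e.inv_hom_id_assoc, hPV.w]
  let k₀ : PV ⟶ c'.pt := sqc.lift pv₂ (pv₁ ≫ e.inv) hk₀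
  have hk1 : k₀ ≫ b₀ = pv₂ := sqc.lift_fst _ _ _
  have hk2 : k₀ ≫ a₀ = pv₁ ≫ e.inv := sqc.lift_snd _ _ _
  have hk₀iso : IsIso k₀ := by
    have sq' : IsPullback pv₂ (pv₁ ≫ e.inv) j.hom (e.hom ≫ f.hom) :=
      IsPullback.of_iso hPV.flip (Iso.refl _) (Iso.refl _) e.symm (Iso.refl _) (by simp) (by simp) (by simp) (by simp)
    have : k₀ = (sq'.isoIsPullback _ _ sqc).hom := by
      apply sqc.hom_ext
      · rw [hk1, IsPullback.isoIsPullback_hom_fst]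
      · rw [hk2, IsPullback.isoIsPullback_hom_snd]
    rw [this]
    infer_instance
  obtain ⟨j₀⟩ := ‹Nonempty I›
  have hk3 : k₀ ≫ c'.π.app (op j₀) ≫ β.app (op j₀) = pv₂ := by rw [hcb, hk1]
  obtain ⟨i₀, hi₀⟩ := Groth.Agent.S10009.result S V D' hD' β
    (fun i k φ => K605.LimImg.isAffineMor_of_isPullback (hDa _ _ φ) (hα φ).flip) c' hc'
    (fun k => K636.QcqsOver.isQuasiCompactSp_of_mor (K605.LimImg.isQuasiCompactMor_of_isAffineMor (hD' k) V.property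
      (isAffineMor_of_isFiniteMor (hβ k))) V.property hVqc) ⟨PV, hPVa⟩ k₀ (repWith_of_isIso _) (op j₀)
      (by rw [hk3]; exact locP_lft_of_finite hfin)
  -- the stages
  have htaff : ∀ k, IsAffineMor (t.app k) := fun k => isAffineMor_of_isFiniteMor (ht k).1
  have hst : ∀ l : {l : I // i₀.unop ≤ l}, ∃ (J : Type u) (_ : Nonempty J) (Z : J → Sp S)
      (z : ∀ μ, Z μ ⟶ D.obj (op l.1)) (a : ∀ μ, X.obj ⟶ Z μ),
      (∀ μ, IsAlgSpace (Z μ)) ∧ (∀ μ, RepWith @IsClosedImmersion (z μ)) ∧ (∀ μ, IsFinitePresentationMor (z μ)) ∧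
      (∀ μ, a μ ≫ z μ = e.inv ≫ c.π.app (op l.1)) ∧ (∀ μ, IsoOver j.hom pv₁ pv₂ (a μ) (z μ ≫ t.app (op l.1))) ∧
      ∀ (C : Sp S) (γ : C ⟶ D.obj (op l.1)), RepWith @IsClosedImmersion γ → LocP @LocallyOfFinitePresentation γ →
        (∃ x, x ≫ γ = e.inv ≫ c.π.app (op l.1)) → ∃ (μ : J) (y : Z μ ⟶ C), y ≫ γ = z μ := by
    intro l
    have hfl : (e.inv ≫ c.π.app (op l.1)) ≫ t.app (op l.1) = f.hom := by rw [Category.assoc, he]
    refine exists_stage H35 (G := ⟨D.obj (op l.1), hD _⟩) hYqc hYqs j hj hVqc ⟨e.inv ≫ c.π.app (op l.1)⟩ ?_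
      ⟨t.app (op l.1)⟩ (ht _).1 pv₁ pv₂ ?_ hfp.1 (α.app (op l.1)) (β.app (op l.1))
      (sqD (op l.1)).flip (k₀ ≫ c'.π.app (op l.1)) ?_ ?_ ?_
    · refine K605.LimImg.isQuasiCompactMor_of_isAffineMor X.property (hD _) ?_
      exact (Groth.Agent.S9944.result (X := X) (Y := ⟨D.obj (op l.1), hD _⟩) (B := Y) ⟨e.inv ≫ c.π.app (op l.1)⟩ f
        ⟨t.app (op l.1)⟩ (by ext1; exact hfl) (isAffineMor_of_isIntegralMor hf)).2 (isSeparatedMor_of_isAffineMor (htaff _))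
    · change IsPullback pv₁ pv₂ ((e.inv ≫ c.π.app (op l.1)) ≫ t.app (op l.1)) j.hom
      rw [hfl]
      exact hPV
    · rw [Category.assoc, hca, ← Category.assoc, hk2, Category.assoc]
    · rw [Category.assoc, hcb, hk1]
    · exact hi₀ _ (homOfLE l.2).op
  choose J hJ Z z a hZ hz hzfp ha hiso hC using hst
  let A : Amal D c :=
    { J := Σ l, J l
      l := fun p => p.1.1
      Z := fun p => Z p.1 p.2
      z := fun p => z p.1 p.2
      mono := fun p => mono_of_repWith_isClosedImmersion (hz p.1 p.2)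
      a := fun p => e.hom ≫ a p.1 p.2
      ha := fun p => by rw [Category.assoc, ha, e.hom_inv_id_assoc] }
  letI : Preorder A.J := A.instPreorder
  have hdir : IsDirected A.J (fun a b => a ≤ b) := ⟨by
    rintro ⟨l₁, μ₁⟩ ⟨l₂, μ₂⟩
    obtain ⟨l, h1, h2⟩ := exists_ge_ge l₁.1 l₂.1
    have hl : i₀.unop ≤ l := l₁.2.trans h1
    have sq₁ := IsPullback.of_hasPullback (z l₁ μ₁) (D.map (homOfLE h1).op)
    have sq₂ := IsPullback.of_hasPullback (z l₂ μ₂) (D.map (homOfLE h2).op)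
    have c₁ := repWith_of_isPullback sq₁ (hz l₁ μ₁)
    have c₂ := repWith_of_isPullback sq₂ (hz l₂ μ₂)
    have sq := IsPullback.of_hasPullback (pullback.snd (z l₁ μ₁) (D.map (homOfLE h1).op))
      (pullback.snd (z l₂ μ₂) (D.map (homOfLE h2).op))
    have c₃ := repWith_of_isPullback sq c₁
    have aC₁ := isAlgSpace_of_repWith_isClosedImmersion c₁ (hD (op l))
    have aC₂ := isAlgSpace_of_repWith_isClosedImmersion c₂ (hD (op l))
    have aC := isAlgSpace_of_repWith_isClosedImmersion c₃ aC₂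
    have f₁ := K597.locP_bc K597.etLoc_lfp sq₁ (hZ l₁ μ₁).atlas (hD _).atlas (hD _).atlas (hzfp l₁ μ₁).1
    have f₂ := K597.locP_bc K597.etLoc_lfp sq₂ (hZ l₂ μ₂).atlas (hD _).atlas (hD _).atlas (hzfp l₂ μ₂).1
    have f₃ := K597.locP_bc K597.etLoc_lfp sq aC₁.atlas (hD _).atlas aC₂.atlas f₁
    have w₁ : a l₁ μ₁ ≫ z l₁ μ₁ = (e.inv ≫ c.π.app (op l)) ≫ D.map (homOfLE h1).op := by
      rw [ha, Category.assoc, c.w]
    have w₂ : a l₂ μ₂ ≫ z l₂ μ₂ = (e.inv ≫ c.π.app (op l)) ≫ D.map (homOfLE h2).op := by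
      rw [ha, Category.assoc, c.w]
    obtain ⟨μ, y, hy⟩ := hC ⟨l, hl⟩ _ (pullback.snd (pullback.snd (z l₁ μ₁) (D.map (homOfLE h1).op))
      (pullback.snd (z l₂ μ₂) (D.map (homOfLE h2).op)) ≫ pullback.snd (z l₂ μ₂) (D.map (homOfLE h2).op))
      (MorphismProperty.comp_mem _ _ _ c₃ c₂) (K597.locP_comp K597.etLoc_lfp aC.atlas aC₂.atlas (hD _).atlas f₃ f₂)
      ⟨pullback.lift (pullback.lift _ _ w₁) (pullback.lift _ _ w₂) (by rw [pullback.lift_snd, pullback.lift_snd]), by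
        rw [← Category.assoc, pullback.lift_snd, pullback.lift_snd]⟩
    refine ⟨⟨⟨l, hl⟩, μ⟩, A.le_def.2 ⟨h1, y ≫ pullback.fst _ _ ≫ pullback.fst _ _, ?_⟩,
      A.le_def.2 ⟨h2, y ≫ pullback.snd _ _ ≫ pullback.fst _ _, ?_⟩⟩
    · change (y ≫ pullback.fst _ _ ≫ pullback.fst _ _) ≫ z l₁ μ₁ = z ⟨l, hl⟩ μ ≫ _
      rw [← hy, Category.assoc, Category.assoc, pullback.condition, Category.assoc, Category.assoc,
        ← Category.assoc (pullback.fst _ _), pullback.condition, Category.assoc]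
    · change (y ≫ pullback.snd _ _ ≫ pullback.fst _ _) ≫ z l₂ μ₂ = z ⟨l, hl⟩ μ ≫ _
      rw [← hy, Category.assoc, Category.assoc, pullback.condition, Category.assoc, Category.assoc]⟩
  have hcof : ∀ i : I, ∃ p, i ≤ A.l p := fun i => by
    obtain ⟨l, h1, h2⟩ := exists_ge_ge i i₀.unop
    obtain ⟨μ⟩ := hJ ⟨l, h2⟩
    exact ⟨⟨⟨l, h2⟩, μ⟩, h1⟩
  obtain ⟨hlim⟩ := A.isLimit hc hcof
  let tF : A.F ⟶ (Functor.const A.Jᵒᵖ).obj Y.obj :=
    { app := fun p => A.z p.unop ≫ t.app (op (A.l p.unop))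
      naturality := fun p q φ => by
        have h1 := (A.le_def.1 (leOfHom φ.unop)).choose
        have h2 := A.map_z φ h1
        change A.map φ ≫ A.z q.unop ≫ t.app _ = (A.z p.unop ≫ t.app _) ≫ 𝟙 _
        rw [Category.comp_id, ← Category.assoc, h2, Category.assoc, hw] }
  have htF : ∀ p, IsFiniteMor (tF.app p) := fun p => K636.QcqsOver.isFiniteMor_closed_comp (hz _ _) (ht _).1
  refine ⟨A.J, inferInstance, hdir, ⟨⟨⟨i₀.unop, le_rfl⟩, (hJ ⟨i₀.unop, le_rfl⟩).some⟩⟩, A.F, tF, A.cone, hlim, e,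
    fun p => hZ _ _, fun p q φ => ?_, fun p => ⟨htF p, ?_⟩, fun p => ?_, fun p Pi q₁ q₂ sq k h1 h2 => ?_⟩
  · exact (Groth.Agent.S9944.result (X := ⟨A.F.obj p, hZ _ _⟩) (Y := ⟨A.F.obj q, hZ _ _⟩) (B := Y) ⟨A.F.map φ⟩
      ⟨tF.app p⟩ ⟨tF.app q⟩ (by ext1; exact (tF.naturality φ).trans (Category.comp_id _))
      (isAffineMor_of_isFiniteMor (htF p))).2 (isSeparatedMor_of_isAffineMor (isAffineMor_of_isFiniteMor (htF q)))
  · refine isFinitePresentationMor_of_isFiniteMor (hZ _ _) Y.property (htF p) ?_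
    exact K597.locP_comp K597.etLoc_lfp (hZ _ _).atlas (hD _).atlas Y.property.atlas (hzfp _ _).1 (ht _).2.1
  · change e.inv ≫ (e.hom ≫ a _ _) ≫ z _ _ ≫ t.app _ = _
    rw [Category.assoc, e.inv_hom_id_assoc, ← Category.assoc, ha, Category.assoc, he]
  · refine hiso p.unop.1 p.unop.2 Pi q₁ q₂ sq k ?_ h2
    refine h1.trans ?_
    change pv₁ ≫ e.inv ≫ e.hom ≫ a _ _ = _
    rw [e.inv_hom_id_assoc]

end K604.Approx
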