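import Groth.Agent.AlgSp.K604.DvrSpec
import Groth.Agent.AlgSp.K596.Univ
import Groth.Agent.AlgSp.K609.QC
import Groth.Agent.AlgSp.K597.LocP
import Groth.Prelude.Def_AlgSpMor5

/-!
# Existence of lifts over discrete valuation rings implies closedness (locally Noetherian target, finite type)
-/

set_option autoImplicit false
universe u

open CategoryTheory CategoryTheory.Limits AlgebraicGeometry Opposite

namespace K604.DvrClosed

open AlgSp

variable {S : Scheme.{u}} {F G H P Q X Y Z : Sp S}

/-- the arrow `Spec K ⟶ Spec A` over `S` -/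
noncomputable abbrev jj (A K : Type u) [CommRing A] [Field K] [Algebra A K] (str : Spec (CommRingCat.of A) ⟶ S) :
    Over.mk (Spec.map (CommRingCat.ofHom (algebraMap A K)) ≫ str) ⟶ Over.mk str :=
  Over.homMk (Spec.map (CommRingCat.ofHom (algebraMap A K))) rfl

/-- Existence of the dotted arrow for squares over discrete valuation rings. -/
def DvrExist (f : X ⟶ Y) : Prop :=
  ∀ (A K : Type u) [CommRing A] [IsDomain A] [IsDiscreteValuationRing A] [Field K] [Algebra A K]
    [IsFractionRing A K] (str : Spec (CommRingCat.of A) ⟶ S)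
    (x : (yon S).obj (Over.mk (Spec.map (CommRingCat.ofHom (algebraMap A K)) ≫ str)) ⟶ X)
    (y : (yon S).obj (Over.mk str) ⟶ Y), x ≫ f = (yon S).map (jj A K str) ≫ y →
      ∃ l : (yon S).obj (Over.mk str) ⟶ X, (yon S).map (jj A K str) ≫ l = x ∧ l ≫ f = y

theorem dvrExist_of_valSq {f : X ⟶ Y} (H : ∀ sq : ValSq f, IsDiscreteValuationRing sq.A → sq.HasLift) :
    DvrExist f := by
  intro A K _ _ _ _ _ _ str x y h
  exact H { A := A, K := K, str := str, top := x, bot := y, comm := h } inferInstance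

theorem dvrExist_of_isPullback {f : X ⟶ Y} (H : DvrExist f) {g : Z ⟶ Y} {fst : P ⟶ X} {snd : P ⟶ Z}
    (sq : IsPullback fst snd f g) : DvrExist snd := by
  intro A K _ _ _ _ _ _ str x y h
  obtain ⟨l, hl1, hl2⟩ := H A K str (x ≫ fst) (y ≫ g) (by
    rw [Category.assoc, sq.w, reassoc_of% h])
  refine ⟨sq.lift l y hl2, ?_, sq.lift_snd _ _ _⟩
  apply sq.hom_ext
  · rw [Category.assoc, sq.lift_fst, hl1]
  · rw [Category.assoc, sq.lift_snd, h]

/-- Ring level: the image of a closed set is closed if it is stable under DVR specializations. -/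
theorem isClosed_image_of_dvr {R B : Type u} [CommRing R] [CommRing B] [Algebra R B] [IsNoetherianRing R]
    [Algebra.FiniteType R B] (T : Set (PrimeSpectrum B)) (hT : IsClosed T)
    (H : ∀ (A K : Type u) [CommRing A] [IsDomain A] [IsDiscreteValuationRing A] [Field K] [Algebra A K]
      [IsFractionRing A K] (x : B →+* K) (y : R →+* A),
      x.comp (algebraMap R B) = (algebraMap A K).comp y →
      (⟨RingHom.ker x, RingHom.ker_isPrime x⟩ : PrimeSpectrum B) ∈ T →
      PrimeSpectrum.comap y (IsLocalRing.closedPoint A) ∈ PrimeSpectrum.comap (algebraMap R B) '' T) :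
    IsClosed (PrimeSpectrum.comap (algebraMap R B) '' T) := by
  refine PrimeSpectrum.isClosed_image_of_stableUnderSpecialization _ T hT ?_
  rintro _ p' hp' ⟨q, hq, rfl⟩
  rw [← PrimeSpectrum.le_iff_specializes] at hp'
  rcases eq_or_lt_of_le hp' with heq | hlt
  · exact ⟨q, hq, heq⟩
  obtain ⟨V, hV, hV1, hV2⟩ := DvrSpec.exists_dvr_of_lt (R := R) q.asIdeal p'.asIdeal hlt
  let y : R →+* V := (algebraMap R q.asIdeal.ResidueField).codRestrict V.toSubring hV1
  have key := H V q.asIdeal.ResidueField (algebraMap B q.asIdeal.ResidueField) y (by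
    ext r
    simp only [RingHom.comp_apply]
    rw [← IsScalarTower.algebraMap_apply]
    rfl) (by
    convert hq
    ext b
    change algebraMap B _ b = 0 ↔ _
    rw [Ideal.algebraMap_residueField_eq_zero])
  convert key
  ext r
  rw [PrimeSpectrum.comap_asIdeal, Ideal.mem_comap]
  change _ ↔ y r ∈ IsLocalRing.maximalIdeal V
  rw [← hV2 r, ValuationSubring.mem_nonunits_iff_exists_mem_maximalIdeal]
  exact ⟨fun ⟨_, h⟩ => h, fun h => ⟨hV1 r, h⟩⟩

/-- **Closedness from lifts over discrete valuation rings**, affine target. -/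
theorem isClosedMap_of_affine_target {Z : Over S} [IsAffine Z.left] [IsLocallyNoetherian Z.left] {P : Sp S}
    (hP : IsQuasiCompactSp P) (g : P ⟶ (yon S).obj Z) (hg : LocP @LocallyOfFiniteType g) (H : DvrExist g) :
    IsClosedMap (Points.map g) := by
  obtain ⟨U, p, hU, hpe, hps⟩ := K609.QC.exists_affine_chart hP
  obtain ⟨k, hk⟩ := (yon S).map_surjective (p ≫ g)
  have hlft : LocallyOfFiniteType k.left := hg p (𝟙 _) k hpe (repWith_id _ _) (by
    rw [Category.comp_id, hk])
  intro T hT
  let T₁ : Set ↥U.left := Points.ofPt p ⁻¹' T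
  have hT₁ : IsClosed T₁ := hT.preimage (Points.continuous_ofPt p)
  have himg : Points.map g '' T = Points.schemeHomeo Z '' (k.left '' T₁) := by
    ext z
    constructor
    · rintro ⟨t, ht, rfl⟩
      obtain ⟨u, rfl⟩ := K609.Points.surjective_ofPt_of_repWith_surjective hps t
      refine ⟨k.left u, ⟨u, ht, rfl⟩, ?_⟩
      rw [Points.map_ofPt, ← hk]
      exact (K609.Points.ofPt_yon_map k u).symm
    · rintro ⟨_, ⟨u, hu, rfl⟩, rfl⟩
      refine ⟨_, hu, ?_⟩
      rw [Points.map_ofPt, ← hk]
      exact K609.Points.ofPt_yon_map k u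
  rw [himg]
  refine (Points.schemeHomeo Z).isClosedMap _ ?_
  -- pass to rings
  let R := Γ(Z.left, ⊤)
  let B := Γ(U.left, ⊤)
  let φ : R ⟶ B := k.left.appTop
  letI : Algebra R B := φ.hom.toAlgebra
  have hft : Algebra.FiniteType R B := HasRingHomProperty.appTop (P := @LocallyOfFiniteType) k.left hlft
  have hR : IsNoetherianRing R := IsLocallyNoetherian.component_noetherian ⟨⊤, isAffineOpen_top Z.left⟩
  have hsq : U.left.isoSpec.hom ≫ Spec.map φ = k.left ≫ Z.left.isoSpec.hom := Scheme.isoSpec_hom_naturality k.left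
  let T₂ : Set (PrimeSpectrum B) := U.left.isoSpec.inv ⁻¹' T₁
  have hT₂ : IsClosed T₂ := hT₁.preimage U.left.isoSpec.inv.continuous
  have himg2 : k.left '' T₁ = Z.left.isoSpec.hom ⁻¹' (PrimeSpectrum.comap φ.hom '' T₂) := by
    ext z
    constructor
    · rintro ⟨u, hu, rfl⟩
      refine ⟨U.left.isoSpec.hom u, ?_, ?_⟩
      · change U.left.isoSpec.inv (U.left.isoSpec.hom u) ∈ T₁
        rwa [Scheme.hom_inv_apply]
      · change (Spec.map φ) (U.left.isoSpec.hom u) = _
        rw [← Scheme.Hom.comp_apply, hsq, Scheme.Hom.comp_apply]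
    · rintro ⟨w, hw, hwz⟩
      refine ⟨U.left.isoSpec.inv w, hw, ?_⟩
      have h1 : Z.left.isoSpec.hom (k.left (U.left.isoSpec.inv w)) = Z.left.isoSpec.hom z := by
        rw [← hwz, ← Scheme.Hom.comp_apply, ← hsq, Scheme.Hom.comp_apply, Scheme.inv_hom_apply]
        rfl
      exact Z.left.isoSpec.hom.homeomorph.injective h1
  rw [himg2]
  refine IsClosed.preimage Z.left.isoSpec.hom.continuous ?_
  refine isClosed_image_of_dvr T₂ hT₂ ?_
  intro A K _ _ _ _ _ _ x y hxy hx
  -- the square
  let y₁ : Spec (CommRingCat.of A) ⟶ Z.left := Spec.map (CommRingCat.ofHom y) ≫ Z.left.isoSpec.inv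
  let x₁ : Spec (CommRingCat.of K) ⟶ U.left := Spec.map (CommRingCat.ofHom x) ≫ U.left.isoSpec.inv
  have hxy₁ : x₁ ≫ k.left = Spec.map (CommRingCat.ofHom (algebraMap A K)) ≫ y₁ := by
    have h1 : U.left.isoSpec.inv ≫ k.left = Spec.map φ ≫ Z.left.isoSpec.inv := by
      rw [Iso.inv_comp_eq, ← Category.assoc, hsq, Category.assoc, Iso.hom_inv_id, Category.comp_id]
    simp only [x₁, y₁, Category.assoc]
    rw [h1, ← Category.assoc, ← Category.assoc, ← Spec.map_comp, ← Spec.map_comp]
    congr 2
    exact CommRingCat.hom_ext hxy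
  let str : Spec (CommRingCat.of A) ⟶ S := y₁ ≫ Z.hom
  let y₂ : Over.mk str ⟶ Z := Over.homMk y₁ rfl
  let x₂ : Over.mk (Spec.map (CommRingCat.ofHom (algebraMap A K)) ≫ str) ⟶ U := Over.homMk x₁ (by
    rw [← Over.w k, reassoc_of% hxy₁]; rfl)
  have hxy₂ : x₂ ≫ k = jj A K str ≫ y₂ := by
    ext : 1
    exact hxy₁
  obtain ⟨l, hl1, hl2⟩ := H A K str ((yon S).map x₂ ≫ p) ((yon S).map y₂) (by
    rw [Category.assoc, ← hk, ← Functor.map_comp, ← Functor.map_comp, hxy₂])
  -- the closed point goes to `T`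
  have hT3 : IsClosed (Points.ofPt l ⁻¹' T) := hT.preimage (Points.continuous_ofPt l)
  have hgen : Points.ofPt l ((Spec.map (CommRingCat.ofHom (algebraMap A K))) (IsLocalRing.closedPoint K)) ∈ T := by
    have h1 := K609.Points.ofPt_yon_map_comp (jj A K str) l (IsLocalRing.closedPoint K)
    rw [hl1, K609.Points.ofPt_yon_map_comp] at h1
    change Points.ofPt l ((jj A K str).left (IsLocalRing.closedPoint K)) ∈ T
    rw [← h1]
    change x₁ (IsLocalRing.closedPoint K) ∈ T₁
    have h2 : (Spec.map (CommRingCat.ofHom x)) (IsLocalRing.closedPoint K) ∈ T₂ := by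
      have h3 : PrimeSpectrum.comap x (IsLocalRing.closedPoint K) = ⟨RingHom.ker x, RingHom.ker_isPrime x⟩ := by
        apply PrimeSpectrum.ext
        ext b
        change x b ∈ IsLocalRing.maximalIdeal K ↔ x b = 0
        rw [IsLocalRing.maximalIdeal_eq_bot, Ideal.mem_bot]
      change PrimeSpectrum.comap x (IsLocalRing.closedPoint K) ∈ T₂
      rw [h3]; exact hx
    exact h2
  have hcl : Points.ofPt l (show ↥(Over.mk str).left from IsLocalRing.closedPoint A) ∈ T := by
    have h1 : ((Spec.map (CommRingCat.ofHom (algebraMap A K))) (IsLocalRing.closedPoint K) :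
        PrimeSpectrum A) ⤳ IsLocalRing.closedPoint A := by
      exact (IsLocalRing.specializes_closedPoint _)
    exact h1.mem_closed hT3 hgen
  obtain ⟨u, hu⟩ := K609.Points.surjective_ofPt_of_repWith_surjective hps
    (Points.ofPt l (show ↥(Over.mk str).left from IsLocalRing.closedPoint A))
  have huT : u ∈ T₁ := by
    change Points.ofPt p u ∈ T
    rw [hu]; exact hcl
  have huk : k.left u = y₁ (IsLocalRing.closedPoint A) := by
    apply (Points.schemeHomeo Z).injective
    have h1 := congrArg (Points.map g) hu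
    rw [Points.map_ofPt, Points.map_ofPt, hl2, ← hk, K609.Points.ofPt_yon_map, K609.Points.ofPt_yon_map] at h1
    exact h1
  have h3 : y₁ (IsLocalRing.closedPoint A) ∈ k.left '' T₁ := ⟨u, huT, huk⟩
  rw [himg2] at h3
  have h4 : Z.left.isoSpec.hom (y₁ (IsLocalRing.closedPoint A)) = PrimeSpectrum.comap y (IsLocalRing.closedPoint A) := by
    simp only [y₁]
    rw [Scheme.Hom.comp_apply, Scheme.inv_hom_apply]
    rfl
  rw [Set.mem_preimage, h4] at h3
  exact h3

end K604.DvrClosed
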