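import Groth.Agent.Ega2.DVRDominate

/-!
# A discrete valuation ring of the residue field of a prime of a finite type algebra over a Noetherian ring
dominating a given proper specialization downstairs.
-/

set_option autoImplicit false
universe u

open IsLocalRing

namespace K604.DvrSpec

theorem exists_dvr_of_lt {R B : Type u} [CommRing R] [CommRing B] [Algebra R B] [IsNoetherianRing R]
    [Algebra.FiniteType R B] (q : Ideal B) [q.IsPrime] (p' : Ideal R) [p'.IsPrime]
    (h : q.comap (algebraMap R B) < p') :
    ∃ V : ValuationSubring q.ResidueField, IsDiscreteValuationRing V ∧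
      (∀ r, algebraMap R q.ResidueField r ∈ V) ∧
      (∀ r : R, algebraMap R q.ResidueField r ∈ V.nonunits ↔ r ∈ p') := by
  classical
  let K := q.ResidueField
  have hker : ∀ r : R, algebraMap R K r = 0 ↔ r ∈ q.comap (algebraMap R B) := by
    intro r
    rw [IsScalarTower.algebraMap_apply R B K, Ideal.algebraMap_residueField_eq_zero, Ideal.mem_comap]
  have hu : ∀ y : p'.primeCompl, IsUnit (algebraMap R K y) := by
    intro y
    rw [isUnit_iff_ne_zero, Ne, hker]
    exact fun hy => y.2 (h.le hy)
  let φ : Localization.AtPrime p' →+* K := IsLocalization.lift (M := p'.primeCompl) hu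
  have hφ : ∀ r, φ (algebraMap R _ r) = algebraMap R K r := fun r => IsLocalization.lift_eq hu r
  have : IsNoetherianRing (Localization.AtPrime p') := IsLocalization.isNoetherianRing p'.primeCompl _ inferInstance
  have hs : Function.Surjective φ.rangeRestrict := φ.rangeRestrict_surjective
  have hloc : IsLocalRing φ.range := .of_surjective' φ.rangeRestrict hs
  have hlh : IsLocalHom φ.rangeRestrict := IsLocalHom.of_surjective _ hs
  have hmem : ∀ r : R, φ.rangeRestrict (algebraMap R _ r) ∈ maximalIdeal φ.range ↔ r ∈ p' := by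
    intro r
    rw [mem_maximalIdeal, mem_nonunits_iff, isUnit_map_iff, ← mem_nonunits_iff, ← mem_maximalIdeal]
    exact IsLocalization.AtPrime.to_map_mem_maximal_iff _ p' r
  obtain ⟨r, hr, hr'⟩ := Set.exists_of_ssubset h
  obtain ⟨S, hS⟩ := (inferInstance : Algebra.FiniteType R B).out
  have hT : Subfield.closure (Set.range (algebraMap φ.range K) ∪ (S.image (algebraMap B K) : Finset K)) = ⊤ := by
    rw [eq_top_iff]
    have h1 : ∀ b : B, algebraMap B K b ∈
        Subfield.closure (Set.range (algebraMap φ.range K) ∪ (S.image (algebraMap B K) : Finset K)) := by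
      intro b
      have hb : b ∈ Algebra.adjoin R (S : Set B) := by rw [hS]; trivial
      induction hb using Algebra.adjoin_induction with
      | mem x hx => exact Subfield.subset_closure (Or.inr (by simpa using ⟨x, hx, rfl⟩))
      | algebraMap r =>
        refine Subfield.subset_closure (Or.inl ⟨⟨φ (algebraMap R _ r), ⟨_, rfl⟩⟩, ?_⟩)
        change φ (algebraMap R _ r) = _
        rw [hφ, ← IsScalarTower.algebraMap_apply]
      | add x y _ _ hx hy => rw [map_add]; exact add_mem hx hy
      | mul x y _ _ hx hy => rw [map_mul]; exact mul_mem hx hy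
    intro z _
    obtain ⟨x, y, -, rfl⟩ := IsFractionRing.div_surjective (A := B ⧸ q) z
    obtain ⟨x, rfl⟩ := Ideal.Quotient.mk_surjective x
    obtain ⟨y, rfl⟩ := Ideal.Quotient.mk_surjective y
    exact div_mem (h1 x) (h1 y)
  obtain ⟨V, hV, hV1, hV2⟩ := Groth.Agent.Ega2.DVRDominate.exists_dvr_of_isLocalRing
    (A := φ.range) (K := K) Subtype.val_injective (by
      intro hbot
      have h2 := (hmem r).2 hr
      rw [hbot, Ideal.mem_bot] at h2
      have h3 : φ (algebraMap R _ r) = 0 := congrArg Subtype.val h2
      rw [hφ, hker] at h3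
      exact hr' h3) _ hT
  refine ⟨V, hV, fun r => ?_, fun r => ?_⟩
  · rw [← hφ]
    exact hV1 ⟨φ (algebraMap R _ r), ⟨_, rfl⟩⟩
  · rw [← hφ, ← hmem]
    exact hV2 ⟨φ (algebraMap R _ r), ⟨_, rfl⟩⟩

end K604.DvrSpec
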