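import Groth.Agent.AlgSp.K600.LimAff
import Groth.Agent.AlgSp.K597.Affine
import Groth.Agent.AlgSp.K638.RedSp

/-!
# Limits of algebraic spaces with affine transition maps: charts by schemes, reducedness
-/

set_option autoImplicit false
universe u

open CategoryTheory CategoryTheory.Limits AlgebraicGeometry Opposite

namespace K604.LimRed

open AlgSp K600.LimSys K600.LimAff

/-- The limit of an affine cofiltered system of reduced affine schemes is reduced. -/
theorem isReduced_limit_of_isAffine {I : Type u} [SmallCategory I] [IsCofiltered I] (D : I ⥤ Scheme.{u})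
    (c : Cone D) (hc : IsLimit c) [∀ i, IsAffine (D.obj i)] (h : ∀ i, IsReduced (D.obj i)) :
    IsReduced c.pt := by
  haveI : IsAffine c.pt := Scheme.isAffine_of_isLimit _ hc
  haveI : _root_.IsReduced Γ(c.pt, ⊤) := by
    refine ⟨fun s hs => ?_⟩
    obtain ⟨n, hn⟩ := hs
    obtain ⟨i, t, rfl⟩ := exists_appTop_π_eq_of_isAffine_of_isLimit D c hc s
    rw [← map_pow] at hn
    obtain ⟨j, f, hj⟩ := exists_appTop_map_eq_zero_of_isAffine_of_isLimit D c hc i (t ^ n) hn
    have h1 : (D.map f).appTop t = 0 := by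
      have : _root_.IsReduced Γ(D.obj j, ⊤) := (h j).component_reduced ⊤
      rw [map_pow] at hj
      exact IsNilpotent.eq_zero ⟨n, hj⟩
    have h2 : (c.π.app i).appTop t = (c.π.app j).appTop ((D.map f).appTop t) := by
      rw [← c.w f, Scheme.Hom.comp_appTop]
      rfl
    rw [h2, h1, map_zero]
  exact isReduced_of_isOpenImmersion c.pt.isoSpec.hom

/-- The limit of a cofiltered system of reduced schemes with affine transition maps is reduced. -/
theorem isReduced_limit {I : Type u} [SmallCategory I] [IsCofiltered I] (D : I ⥤ Scheme.{u})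
    (c : Cone D) (hc : IsLimit c) [∀ {i j : I} (f : i ⟶ j), IsAffineHom (D.map f)] (h : ∀ i, IsReduced (D.obj i)) :
    IsReduced c.pt := by
  obtain ⟨i⟩ := IsCofiltered.nonempty (C := I)
  have key : ∀ U : (D.obj i).affineOpens, IsReduced (c.π.app i ⁻¹ᵁ (U : (D.obj i).Opens) : Scheme.{u}) := by
    intro U
    have h1 := isLimitOpensCone D c hc i (U : (D.obj i).Opens)
    haveI : ∀ j, IsAffine ((opensDiagram D i (U : (D.obj i).Opens)).obj j) := fun j => U.2.preimage (D.map j.hom)
    exact isReduced_limit_of_isAffine _ _ h1 fun j => by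
      have := h j.left
      change IsReduced (D.map j.hom ⁻¹ᵁ (U : (D.obj i).Opens) : Scheme.{u})
      infer_instance
  have hcov : TopologicalSpace.IsOpenCover
      (fun U : (D.obj i).affineOpens => c.π.app i ⁻¹ᵁ (U : (D.obj i).Opens)) := by
    refine TopologicalSpace.IsOpenCover.mk ?_
    rw [← top_le_iff]
    intro x _
    obtain ⟨U, hU, hx, -⟩ := exists_isAffineOpen_mem_and_subset (x := (c.π.app i) x) (U := ⊤) trivial
    exact TopologicalSpace.Opens.mem_iSup.2 ⟨⟨U, hU⟩, hx⟩
  let 𝒰 : c.pt.OpenCover := c.pt.openCoverOfIsOpenCover _ hcov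
  haveI : ∀ j, IsReduced (𝒰.X j) := fun j => key j
  exact IsReduced.of_openCover c.pt 𝒰

/-- The pulled back system and its limit, for an arbitrary chart. -/
theorem exists_sys {S : Scheme.{u}} {I : Type u} [SmallCategory I] [IsCofiltered I] {D : I ⥤ Sp S} {i : I} {U : Over S}
    (hDa : ∀ (i j : I) (φ : i ⟶ j), IsAffineMor (D.map φ)) {c : Cone D} (hc : IsLimit c) (p : (yon S).obj U ⟶ D.obj i) :
    ∃ (s : Sys D i p) (V : Over S) (a : (yon S).obj V ⟶ c.pt) (b : V ⟶ U),
      (∀ {j k : Over i} (f : j ⟶ k), IsAffineHom ((s.W ⋙ Over.forget S).map f)) ∧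
      IsPullback a ((yon S).map b) (c.π.app i) p := by
  have hD : ∀ (i j : I) (φ : i ⟶ j), RepWith @IsAffineHom (D.map φ) :=
    fun i j φ => K597.Affine.repWith_of_isAffineMor (hDa i j φ)
  let s : Sys D i p := Sys.ofRep (fun i j φ => (hD i j φ).1) p
  obtain ⟨t, ⟨ht⟩⟩ := s.exists_isLimit (fun {j k} f => s.isAffineHom_map hD f)
  obtain ⟨a, b, sq, -, -⟩ := s.exists_isPullback_of_isLimit hc t ht
  exact ⟨s, t.pt, a, b, fun {j k} f => s.isAffineHom_map hD f, sq⟩

end K604.LimRed
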