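import Groth.Agent.AlgSp.K604.Spread
import Groth.Agent.AlgSp.K604.LimRed
import Groth.Agent.AlgSp.K600.LimRep
import Groth.Agent.AlgSp.K596.QC

/-!
# Spreading out Zariski local factorizations through an etale chart: systems of algebraic spaces
-/

set_option autoImplicit false
universe u

open CategoryTheory CategoryTheory.Limits AlgebraicGeometry Opposite

namespace K604.Spread

open AlgSp K600.LimSys

variable {S : Scheme.{u}} {I : Type u} [SmallCategory I] [IsCofiltered I] {D : I ⥤ Sp S} {c : Cone D}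

/-- If the limit `h_Y` of a system over `X` factors Zariski locally through the etale `p : h_E ⟶ X`, then some stage is
a scheme with the same property. -/
theorem exists_stage_space [QuasiSeparatedSpace ↥S] (hD : ∀ i, IsAlgSpace (D.obj i))
    (hDa : ∀ (i j : I) (φ : i ⟶ j), IsAffineMor (D.map φ)) (hc : IsLimit c)
    (hqc : ∀ i, IsQuasiCompactSp (D.obj i)) (hqs : ∀ i, IsQuasiSeparatedSp (D.obj i))
    {Y : Over S} (e : (yon S).obj Y ≅ c.pt) {X : Sp S} (t : ∀ i, D.obj i ⟶ X)
    (ht : ∀ {i j : I} (φ : i ⟶ j), D.map φ ≫ t j = t i) {E : Over S} {p : (yon S).obj E ⟶ X} (hp : RepWith @Etale p)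
    (g : (yon S).obj Y ⟶ X) (hg : ∀ i, e.hom ≫ c.π.app i ≫ t i = g)
    (hloc : ∀ y : ↥Y.left, ∃ W : Y.left.Opens, y ∈ W ∧ ∃ k : opn Y W ⟶ E,
      (yon S).map k ≫ p = (yon S).map (opnι Y W) ≫ g) :
    ∃ (i : I) (Y' : Over S) (ε : (yon S).obj Y' ≅ D.obj i), ∀ y : ↥Y'.left, ∃ W : Y'.left.Opens, y ∈ W ∧
      ∃ k : opn Y' W ⟶ E, (yon S).map k ≫ p = (yon S).map (opnι Y' W) ≫ ε.hom ≫ t i := by
  obtain ⟨i, U, ⟨p₁⟩⟩ := K600.LimRep.exists_rep_of_limit hD hDa hc hqc hqs Y e
  obtain ⟨s, -, -, -, hs, -⟩ := K604.LimRed.exists_sys hDa hc p₁.hom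
  obtain ⟨b, hb⟩ := (yon S).map_surjective (e.hom ≫ c.π.app i ≫ p₁.inv)
  have sq : IsPullback e.hom ((yon S).map b) (c.π.app i) p₁.hom :=
    IsPullback.of_horiz_isIso ⟨by rw [hb, Category.assoc, Category.assoc, p₁.inv_hom_id, Category.comp_id]⟩
  have hfst : ∀ j, IsIso (s.fst j) := fun j => by
    have := (s.sq j).flip
    exact MorphismProperty.of_isPullback (P := MorphismProperty.isomorphisms _) (s.sq j).flip
      (inferInstanceAs (IsIso p₁.hom))
  let t' : ∀ j : Over i, (yon S).obj (s.W.obj j) ⟶ X := fun j => s.fst j ≫ t j.left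
  have ht' : ∀ {j k : Over i} (f : j ⟶ k), (yon S).map (s.W.map f) ≫ t' k = t' j := fun {j k} f => by
    refine (Category.assoc _ _ _).symm.trans ((congrArg (· ≫ t k.left) (s.W_map_fst f)).trans ?_)
    exact (Category.assoc _ _ _).trans (congrArg (fun z => s.fst j ≫ z) (ht f.left))
  have hg' : ∀ j : Over i, (yon S).map ((s.cone sq).π.app j) ≫ t' j = g := fun j => by
    refine (Category.assoc _ _ _).symm.trans ((congrArg (· ≫ t j.left) (s.proj_fst sq j)).trans ?_)
    exact (Category.assoc _ _ _).trans (hg j.left)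
  have hcpt : ∀ j : Over i, CompactSpace (s.W.obj j).left := fun j => by
    have := hfst j
    refine K596.QC.compactSpace_of_isQuasiCompactSp ?_
    exact K596.QC.isQuasiCompactSp_of_repWith (hqc j.left) (K598.RepKit.repWith_of_isIso (s.fst j))
  obtain ⟨j, -, hj⟩ := exists_stage (c := s.cone sq) hp (s.isLimitConeLeft sq hc) (fun f => hs f) t' ht' hcpt g hg' hloc
    (Over.mk (𝟙 i))
  have := hfst j
  exact ⟨j.left, s.obj j, asIso (s.fst j), fun y => hj j (𝟙 j) y⟩

end K604.Spread
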