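import Groth.Agent.AlgSp.K604.Approx4
import Groth.Agent.AlgSp.K604.Spread2

/-!
# From integral scheme covers to finite scheme covers of finite presentation
-/

set_option autoImplicit false
universe u

open CategoryTheory CategoryTheory.Limits AlgebraicGeometry Opposite

namespace K604.FinCover

open AlgSp K604.Approx K604.Spread K604.LimFin K604.LimSep2 K598.RepKit

variable {S : Scheme.{u}}

/-- the local factorization property -/
def LocFac {X : Sp S} {E Y : Over S} (p : (yon S).obj E ⟶ X) (g : (yon S).obj Y ⟶ X) : Prop :=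
  ∀ y : ↥Y.left, ∃ W : Y.left.Opens, y ∈ W ∧ ∃ k : Over.mk (W.ι ≫ Y.hom) ⟶ E,
    (yon S).map k ≫ p = (yon S).map (Over.homMk W.ι) ≫ g

theorem surj_of_factor {A B C : Sp S} {f : A ⟶ B} {h : B ⟶ C} (hs : IsSurjectiveMor (f ≫ h)) : IsSurjectiveMor h := fun x => by
  obtain ⟨a, ha⟩ := hs x
  exact ⟨Points.map f a, by rw [← ha, Points.map_comp]⟩

/-- common part: a stage which is a scheme with local factorizations. -/
theorem exists_of_system [QuasiSeparatedSpace S] {X : Space S} (hXqc : IsQuasiCompactSp X.obj)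
    (hXqs : IsQuasiSeparatedSp X.obj) {E : Over S} {p : (yon S).obj E ⟶ X.obj} (hp : RepWith @Etale p) {Y : Over S}
    (g : (yon S).obj Y ⟶ X.obj) (hgs : RepWith @Surjective g) (hloc : LocFac p g)
    {I : Type u} [Preorder I] [IsDirected I (fun a b => a ≤ b)] [Nonempty I] (D : Iᵒᵖ ⥤ AlgSp.Sp S)
    (t : D ⟶ (Functor.const Iᵒᵖ).obj X.obj) (c : Cone D) (hc : IsLimit c) (e : c.pt ≅ (yon S).obj Y)
    (hD : ∀ i, AlgSp.IsAlgSpace (D.obj i)) (hDa : ∀ (i j : Iᵒᵖ) (φ : i ⟶ j), AlgSp.IsAffineMor (D.map φ))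
    (ht : ∀ i, AlgSp.IsFiniteMor (t.app i) ∧ AlgSp.IsFinitePresentationMor (t.app i))
    (he : ∀ i, e.inv ≫ c.π.app i ≫ t.app i = g) :
    ∃ (i : Iᵒᵖ) (Y' : Over S) (ε : (yon S).obj Y' ≅ D.obj i), IsFiniteMor (ε.hom ≫ t.app i) ∧
      IsSurjectiveMor (ε.hom ≫ t.app i) ∧ IsFinitePresentationMor (ε.hom ≫ t.app i) ∧ LocFac p (ε.hom ≫ t.app i) := by
  have haff : ∀ i, IsAffineMor (t.app i) := fun i => isAffineMor_of_isFiniteMor (ht i).1
  have hw : ∀ {i j : Iᵒᵖ} (φ : i ⟶ j), D.map φ ≫ t.app j = t.app i := fun {i j} φ => by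
    rw [t.naturality]; exact Category.comp_id _
  obtain ⟨i, Y', ε, hY'⟩ := exists_stage_space hD hDa hc (fun i => K636.QcqsOver.isQuasiCompactSp_of_mor
    (K605.LimImg.isQuasiCompactMor_of_isAffineMor (hD i) X.property (haff i)) X.property hXqc)
    (fun i => K636.QcqsOver.isQuasiSeparatedSp_of_mor (isQuasiSeparatedMor_of_isAffineMor (haff i)) hXqs) e.symm
    (fun i => t.app i) hw hp g he hloc
  have hfin : IsFiniteMor (ε.hom ≫ t.app i) := K634.FiniteMor.isFiniteMor_iff.2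
    (MorphismProperty.comp_mem _ _ _ (repWith_of_isIso _) (K634.FiniteMor.isFiniteMor_iff.1 (ht i).1))
  refine ⟨i, Y', ε, hfin, ?_, ?_, hY'⟩
  · have h1 : IsSurjectiveMor g := K609.Points.surjective_map_of_repWith_surjective hgs
    have h2 : (e.inv ≫ c.π.app i ≫ ε.inv) ≫ (ε.hom ≫ t.app i) = g := by
      rw [Category.assoc, Category.assoc, ε.inv_hom_id_assoc, he]
    rw [← h2] at h1
    exact surj_of_factor h1
  · refine isFinitePresentationMor_of_isFiniteMor (IsAlgSpace.yon_obj Y') X.property hfin ?_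
    exact K597.locP_precomp (repWith_of_isIso _) (ht i).2.1

/-- Integral scheme cover + S10033 gives a finite scheme cover of finite presentation. -/
theorem exists_finite_fp [QuasiSeparatedSpace S] (H33 : IntApprox S) {X : Space S} (hXqc : IsQuasiCompactSp X.obj)
    (hXqs : IsQuasiSeparatedSp X.obj) {E : Over S} {p : (yon S).obj E ⟶ X.obj} (hp : RepWith @Etale p) {Y : Over S}
    (g : (yon S).obj Y ⟶ X.obj) (hgi : RepWith @IsIntegralHom g) (hgs : RepWith @Surjective g) (hloc : LocFac p g) :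
    ∃ (Y' : Over S) (g' : (yon S).obj Y' ⟶ X.obj), IsFiniteMor g' ∧ IsSurjectiveMor g' ∧ IsFinitePresentationMor g' ∧
      LocFac p g' := by
  obtain ⟨I, _, _, _, D, t, c, hc, e, hD, hDa, ht, he⟩ := H33 (X := ⟨(yon S).obj Y, IsAlgSpace.yon_obj Y⟩) (Y := X) ⟨g⟩
    (isIntegralMor_iff'.2 hgi) hXqc hXqs
  obtain ⟨i, Y', ε, h⟩ := exists_of_system hXqc hXqs hp g hgs hloc D t c hc e hD hDa ht he
  exact ⟨Y', _, h⟩

/-- The same, keeping the finite etale part over a quasi-compact open subspace. -/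
theorem exists_finite_fp_over [QuasiSeparatedSpace S] (H33 : IntApprox S) (H35 : ClosedApprox S) {X : Space S}
    (hXqc : IsQuasiCompactSp X.obj)
    (hXqs : IsQuasiSeparatedSp X.obj) {E : Over S} {p : (yon S).obj E ⟶ X.obj} (hp : RepWith @Etale p) {Y : Over S}
    (g : (yon S).obj Y ⟶ X.obj) (hgi : RepWith @IsIntegralHom g) (hgs : RepWith @Surjective g) (hloc : LocFac p g)
    (U : Space S) (jU : U ⟶ X) (hj : RepWith @IsOpenImmersion jU.hom) (hUqc : IsQuasiCompactSp U.obj)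
    (hU : ∀ (P : AlgSp.Sp S) (fst : P ⟶ (AlgSp.yon S).obj Y) (snd : P ⟶ U.obj), IsPullback fst snd g jU.hom →
        AlgSp.RepWith @IsFinite snd ∧ AlgSp.RepWith @Etale snd) :
    ∃ (Y' : Over S) (g' : (yon S).obj Y' ⟶ X.obj), IsFiniteMor g' ∧ IsSurjectiveMor g' ∧ IsFinitePresentationMor g' ∧
      (∀ (P : AlgSp.Sp S) (fst : P ⟶ (AlgSp.yon S).obj Y') (snd : P ⟶ U.obj), IsPullback fst snd g' jU.hom →
        AlgSp.IsFiniteMor snd ∧ AlgSp.IsEtaleMor snd) ∧ LocFac p g' := by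
  have sqPV := IsPullback.of_hasPullback g jU.hom
  obtain ⟨hfin, het⟩ := hU _ _ _ sqPV
  have hPVa : IsAlgSpace (pullback g jU.hom) :=
    isAlgSpace_of_repWith_isOpenImmersion (repWith_of_isPullback sqPV.flip hj) (IsAlgSpace.yon_obj Y)
  have hfin' : IsFiniteMor (pullback.snd g jU.hom) := K634.FiniteMor.isFiniteMor_iff.2 hfin
  obtain ⟨I, _, _, _, D, t, c, hc, e, hD, hDa, ht, he, hiso⟩ := K604.Approx.main H33 H35
    (X := ⟨(yon S).obj Y, IsAlgSpace.yon_obj Y⟩) (Y := X) ⟨g⟩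
    (isIntegralMor_iff'.2 hgi) hXqc hXqs U jU hj hUqc (pullback g jU.hom) (pullback.fst _ _) (pullback.snd _ _) sqPV hfin'
    (isFinitePresentationMor_of_isFiniteMor hPVa U.property hfin' (K597.locP_of_repWith K597.etLoc_lfp.precomp
      (K597.repWith_mono (fun _ _ f (_ : Etale f) => (inferInstance : LocallyOfFinitePresentation f)) het)))
  obtain ⟨i, Y', ε, h1, h2, h3, h4⟩ := exists_of_system hXqc hXqs hp g hgs hloc D t c hc e hD hDa ht he
  refine ⟨Y', _, h1, h2, h3, fun P fst snd sq => ?_, h4⟩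
  have sq' : IsPullback (fst ≫ ε.hom) snd (t.app i) jU.hom :=
    IsPullback.of_iso sq (Iso.refl _) ε (Iso.refl _) (Iso.refl _) (by simp) (by simp) (by simp) (by simp)
  have hw : (pullback.fst g jU.hom ≫ e.inv ≫ c.π.app i) ≫ t.app i = pullback.snd g jU.hom ≫ jU.hom := by
    rw [Category.assoc, Category.assoc, he]
    exact pullback.condition
  have hk := hiso i P _ _ sq' (sq'.lift _ _ hw) (sq'.lift_fst _ _ _) (sq'.lift_snd _ _ _)
  have hsnd : snd = inv (sq'.lift _ _ hw) ≫ pullback.snd g jU.hom := by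
    rw [IsIso.eq_inv_comp, sq'.lift_snd]
  rw [hsnd]
  exact ⟨K634.FiniteMor.isFiniteMor_iff.2 (MorphismProperty.comp_mem _ _ _ (repWith_of_isIso _) hfin),
    fun _ _ hφ => K597.etale_comp hφ (MorphismProperty.comp_mem _ _ _ (repWith_of_isIso _) het)⟩

end K604.FinCover
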