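import Groth.Agent.AlgSp.K600.LimAff
import Mathlib.AlgebraicGeometry.Morphisms.ClosedImmersion
import Mathlib.AlgebraicGeometry.Morphisms.FiniteType

/-!
# Generation of global sections by two projections, in a limit and at a finite level
-/

set_option autoImplicit false
universe u

open CategoryTheory CategoryTheory.Limits AlgebraicGeometry Opposite

namespace K604.GenLim

/-- the subring generated by the images of two ring homs -/
def gen {A B R : Type u} [CommRing A] [CommRing B] [CommRing R] (φ : A →+* R) (ψ : B →+* R) : Subring R :=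
  Subring.closure (Set.range φ ∪ Set.range ψ)

section

variable {A B R : Type u} [CommRing A] [CommRing B] [CommRing R] {φ : A →+* R} {ψ : B →+* R}

theorem left_mem (a : A) : φ a ∈ gen φ ψ := Subring.subset_closure (Or.inl ⟨a, rfl⟩)

theorem right_mem (b : B) : ψ b ∈ gen φ ψ := Subring.subset_closure (Or.inr ⟨b, rfl⟩)

theorem gen_le {S : Subring R} (h1 : ∀ a, φ a ∈ S) (h2 : ∀ b, ψ b ∈ S) : gen φ ψ ≤ S := by
  refine Subring.closure_le.2 ?_
  rintro _ (⟨a, rfl⟩ | ⟨b, rfl⟩)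
  · exact h1 a
  · exact h2 b

theorem map_mem {A' B' R' : Type u} [CommRing A'] [CommRing B'] [CommRing R'] {φ' : A' →+* R'} {ψ' : B' →+* R'}
    (f : R →+* R') (g : A →+* A') (h : B →+* B') (h1 : f.comp φ = φ'.comp g) (h2 : f.comp ψ = ψ'.comp h) {x : R}
    (hx : x ∈ gen φ ψ) : f x ∈ gen φ' ψ' := by
  have : gen φ ψ ≤ (gen φ' ψ').comap f := gen_le
    (fun a => by
      rw [Subring.mem_comap]
      have : f (φ a) = φ' (g a) := congrFun (congrArg DFunLike.coe h1) a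
      rw [this]; exact left_mem _)
    (fun b => by
      rw [Subring.mem_comap]
      have : f (ψ b) = ψ' (h b) := congrFun (congrArg DFunLike.coe h2) b
      rw [this]; exact right_mem _)
  exact this hx

end

/-- A pushout of commutative rings is generated by the two images. -/
theorem gen_eq_top_of_isPushout {Z A B P : CommRingCat.{u}} {f : Z ⟶ A} {g : Z ⟶ B} {inl : A ⟶ P} {inr : B ⟶ P}
    (h : IsPushout f g inl inr) : gen inl.hom inr.hom = ⊤ := by
  let S := gen inl.hom inr.hom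
  let a : A ⟶ CommRingCat.of S := CommRingCat.ofHom (inl.hom.codRestrict S fun x => left_mem x)
  let b : B ⟶ CommRingCat.of S := CommRingCat.ofHom (inr.hom.codRestrict S fun x => right_mem x)
  have hab : f ≫ a = g ≫ b := by
    ext x
    change inl.hom (f.hom x) = inr.hom (g.hom x)
    have := congrArg (fun k => k.hom x) h.w
    exact this
  let d : P ⟶ CommRingCat.of S := h.desc a b hab
  have hd : d ≫ CommRingCat.ofHom S.subtype = 𝟙 P := by
    apply h.hom_ext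
    · rw [← Category.assoc, h.inl_desc, Category.comp_id]; rfl
    · rw [← Category.assoc, h.inr_desc, Category.comp_id]; rfl
  rw [eq_top_iff]
  intro x _
  have h1 : ((d.hom x : S) : P) = x := congrArg (fun k => k.hom x) hd
  rw [← h1]
  exact (d.hom x).2

section

variable {J : Type u} [SmallCategory J] [IsCofiltered J] {DU DR : J ⥤ Scheme.{u}} (r₁ r₂ : DR ⟶ DU)
  {cU : Cone DU} {cR : Cone DR} (hU : IsLimit cU) (hR : IsLimit cR) (ρ₁ ρ₂ : cR.pt ⟶ cU.pt)
  (h₁ : ∀ j, ρ₁ ≫ cU.π.app j = cR.π.app j ≫ r₁.app j) (h₂ : ∀ j, ρ₂ ≫ cU.π.app j = cR.π.app j ≫ r₂.app j)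
  [∀ j, IsAffine (DU.obj j)] [∀ j, IsAffine (DR.obj j)]

/-- subring of the sections at level `j` generated by the two projections -/
abbrev lv (j : J) : Subring Γ(DR.obj j, ⊤) := gen (r₁.app j).appTop.hom (r₂.app j).appTop.hom

theorem map_mem_lv {j k : J} (f : j ⟶ k) {x : Γ(DR.obj k, ⊤)} (hx : x ∈ lv r₁ r₂ k) :
    (DR.map f).appTop.hom x ∈ lv r₁ r₂ j := by
  refine map_mem (DR.map f).appTop.hom (DU.map f).appTop.hom (DU.map f).appTop.hom ?_ ?_ hx
  · have := congrArg (fun g => g.appTop.hom) (r₁.naturality f)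
    simp only [Scheme.Hom.comp_appTop, CommRingCat.hom_comp] at this
    exact this.symm.symm
  · have := congrArg (fun g => g.appTop.hom) (r₂.naturality f)
    simp only [Scheme.Hom.comp_appTop, CommRingCat.hom_comp] at this
    exact this.symm.symm

include hU h₁ h₂ in
/-- elements generated in the limit are generated at a finite level -/
theorem exists_lv {y : Γ(cR.pt, ⊤)} (hy : y ∈ gen ρ₁.appTop.hom ρ₂.appTop.hom) :
    ∃ (j : J) (z : Γ(DR.obj j, ⊤)), z ∈ lv r₁ r₂ j ∧ (cR.π.app j).appTop.hom z = y := by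
  have key : ∀ {j k : J} (f : j ⟶ k) (z : Γ(DR.obj k, ⊤)),
      (cR.π.app j).appTop.hom ((DR.map f).appTop.hom z) = (cR.π.app k).appTop.hom z := by
    intro j k f z
    rw [← cR.w f, Scheme.Hom.comp_appTop]
    rfl
  obtain ⟨j₀⟩ := IsCofiltered.nonempty (C := J)
  refine Subring.closure_induction (p := fun y _ => ∃ (j : J) (z : Γ(DR.obj j, ⊤)), z ∈ lv r₁ r₂ j ∧
    (cR.π.app j).appTop.hom z = y) ?_ ?_ ?_ ?_ ?_ ?_ hy
  · rintro _ (⟨b, rfl⟩ | ⟨b, rfl⟩)
    · obtain ⟨j, t, rfl⟩ := exists_appTop_π_eq_of_isAffine_of_isLimit DU cU hU b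
      refine ⟨j, (r₁.app j).appTop.hom t, left_mem t, ?_⟩
      have := congrArg (fun g => g.appTop.hom t) (h₁ j)
      simp only [Scheme.Hom.comp_appTop, CommRingCat.hom_comp] at this
      exact this.symm
    · obtain ⟨j, t, rfl⟩ := exists_appTop_π_eq_of_isAffine_of_isLimit DU cU hU b
      refine ⟨j, (r₂.app j).appTop.hom t, right_mem t, ?_⟩
      have := congrArg (fun g => g.appTop.hom t) (h₂ j)
      simp only [Scheme.Hom.comp_appTop, CommRingCat.hom_comp] at this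
      exact this.symm
  · exact ⟨j₀, 0, Subring.zero_mem _, map_zero _⟩
  · exact ⟨j₀, 1, Subring.one_mem _, map_one _⟩
  · rintro _ _ _ _ ⟨j, z, hz, rfl⟩ ⟨k, w, hw, rfl⟩
    obtain ⟨l, f, g, -⟩ := IsCofilteredOrEmpty.cone_objs j k
    refine ⟨l, _, Subring.add_mem _ (map_mem_lv r₁ r₂ f hz) (map_mem_lv r₁ r₂ g hw), ?_⟩
    rw [map_add, key, key]
  · rintro _ _ ⟨j, z, hz, rfl⟩
    exact ⟨j, _, Subring.neg_mem _ hz, map_neg _ _⟩
  · rintro _ _ _ _ ⟨j, z, hz, rfl⟩ ⟨k, w, hw, rfl⟩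
    obtain ⟨l, f, g, -⟩ := IsCofilteredOrEmpty.cone_objs j k
    refine ⟨l, _, Subring.mul_mem _ (map_mem_lv r₁ r₂ f hz) (map_mem_lv r₁ r₂ g hw), ?_⟩
    rw [map_mul, key, key]

include hU hR h₁ h₂ in
theorem exists_lv_map (hgen : gen ρ₁.appTop.hom ρ₂.appTop.hom = ⊤) {j : J} (x : Γ(DR.obj j, ⊤)) :
    ∃ (k : J) (f : k ⟶ j), (DR.map f).appTop.hom x ∈ lv r₁ r₂ k := by
  obtain ⟨l, z, hz, hzx⟩ := exists_lv r₁ r₂ hU ρ₁ ρ₂ h₁ h₂ (y := (cR.π.app j).appTop.hom x) (by
    rw [hgen]; trivial)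
  have key : ∀ {j k : J} (f : j ⟶ k) (z : Γ(DR.obj k, ⊤)),
      (cR.π.app j).appTop.hom ((DR.map f).appTop.hom z) = (cR.π.app k).appTop.hom z := by
    intro j k f z
    rw [← cR.w f, Scheme.Hom.comp_appTop]
    rfl
  have key2 : ∀ {i j k : J} (f : i ⟶ j) (g : j ⟶ k) (z : Γ(DR.obj k, ⊤)),
      (DR.map (f ≫ g)).appTop.hom z = (DR.map f).appTop.hom ((DR.map g).appTop.hom z) := by
    intro i j k f g z
    rw [DR.map_comp, Scheme.Hom.comp_appTop]
    rfl
  obtain ⟨m, f, g, -⟩ := IsCofilteredOrEmpty.cone_objs j l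
  obtain ⟨n, h, hn⟩ := exists_appTop_map_eq_zero_of_isAffine_of_isLimit DR cR hR m
    ((DR.map f).appTop.hom x - (DR.map g).appTop.hom z) (by
      change (cR.π.app m).appTop.hom _ = 0
      rw [map_sub, key, key, hzx, sub_self])
  refine ⟨n, h ≫ f, ?_⟩
  have h3 : (DR.map h).appTop.hom ((DR.map f).appTop.hom x) = (DR.map h).appTop.hom ((DR.map g).appTop.hom z) := by
    have h4 : (DR.map h).appTop.hom ((DR.map f).appTop.hom x - (DR.map g).appTop.hom z) = 0 := hn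
    rw [map_sub, sub_eq_zero] at h4
    exact h4
  rw [key2, h3]
  exact map_mem_lv r₁ r₂ h (map_mem_lv r₁ r₂ g hz)

include hU hR h₁ h₂ in
/-- **Generation descends to a finite level.** -/
theorem exists_lv_eq_top (j₁ : J)
    (hsq : ∀ {j : J} (f : j ⟶ j₁), IsPullback (DR.map f) (r₁.app j) (r₁.app j₁) (DU.map f))
    (hft : LocallyOfFiniteType (r₁.app j₁)) (hgen : gen ρ₁.appTop.hom ρ₂.appTop.hom = ⊤) :
    ∃ (j : J) (_ : j ⟶ j₁), lv r₁ r₂ j = ⊤ := by
  letI : Algebra Γ(DU.obj j₁, ⊤) Γ(DR.obj j₁, ⊤) := (r₁.app j₁).appTop.hom.toAlgebra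
  have hft' : Algebra.FiniteType Γ(DU.obj j₁, ⊤) Γ(DR.obj j₁, ⊤) :=
    HasRingHomProperty.appTop (P := @LocallyOfFiniteType) (r₁.app j₁) hft
  obtain ⟨s, hs⟩ := hft'.out
  have key2 : ∀ {i j k : J} (f : i ⟶ j) (g : j ⟶ k) (z : Γ(DR.obj k, ⊤)),
      (DR.map (f ≫ g)).appTop.hom z = (DR.map f).appTop.hom ((DR.map g).appTop.hom z) := by
    intro i j k f g z
    rw [DR.map_comp, Scheme.Hom.comp_appTop]
    rfl
  have h3 : ∀ t : Finset Γ(DR.obj j₁, ⊤), ∃ (k : J) (f : k ⟶ j₁), ∀ x ∈ t, (DR.map f).appTop.hom x ∈ lv r₁ r₂ k := by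
    intro t
    classical
    induction t using Finset.induction_on with
    | empty => exact ⟨j₁, 𝟙 _, fun x hx => absurd hx (Finset.notMem_empty _)⟩
    | insert a t _ ih =>
      obtain ⟨k, f, hf⟩ := ih
      obtain ⟨l, g, hg⟩ := exists_lv_map r₁ r₂ hU hR ρ₁ ρ₂ h₁ h₂ hgen ((DR.map f).appTop.hom a)
      refine ⟨l, g ≫ f, fun x hx => ?_⟩
      rw [key2]
      rcases Finset.mem_insert.1 hx with rfl | hx
      · exact hg
      · exact map_mem_lv r₁ r₂ g (hf x hx)
  obtain ⟨k, f, hf⟩ := h3 s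
  refine ⟨k, f, ?_⟩
  have h4 : ∀ x : Γ(DR.obj j₁, ⊤), (DR.map f).appTop.hom x ∈ lv r₁ r₂ k := by
    intro x
    have hx : x ∈ Algebra.adjoin Γ(DU.obj j₁, ⊤) (s : Set Γ(DR.obj j₁, ⊤)) := by rw [hs]; trivial
    refine Algebra.adjoin_induction (p := fun x _ => (DR.map f).appTop.hom x ∈ lv r₁ r₂ k) ?_ ?_ ?_ ?_ hx
    · intro x hx
      exact hf x hx
    · intro r
      exact map_mem_lv r₁ r₂ f (left_mem (φ := (r₁.app j₁).appTop.hom) r)
    · intro x y _ _ hx hy
      rw [map_add]; exact Subring.add_mem _ hx hy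
    · intro x y _ _ hx hy
      rw [map_mul]; exact Subring.mul_mem _ hx hy
  have h5 := gen_eq_top_of_isPushout (isPushout_appTop_of_isPullback (hsq f))
  rw [eq_top_iff, ← h5]
  exact gen_le h4 fun b => left_mem b

end

end K604.GenLim
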