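import Groth.Agent.AlgSp.K604.Approx3
import Groth.Agent.AlgSp.K600.LimSpace
import Groth.Agent.AlgSp.K600.LimAff

/-!
# Good diagrams (S10063) from S10037 and the descent of finitely presented spaces to a stage
-/

set_option autoImplicit false
universe u

open CategoryTheory CategoryTheory.Limits AlgebraicGeometry Opposite

namespace K604.GoodDiag

open AlgSp K604.Approx K604.LimFin K604.LimSep2 K598.RepKit

variable {S : Scheme.{u}}

/-- The statement of S10037 over `S`. -/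
def ClosedInFp (S : Scheme.{u}) : Prop :=
  ∀ {X Y : AlgSp.Space S} (f : X ⟶ Y), AlgSp.LocP @LocallyOfFiniteType f.hom →
    AlgSp.IsQuasiCompactSp X.obj → AlgSp.IsQuasiSeparatedSp X.obj → AlgSp.IsQuasiCompactSp Y.obj →
    AlgSp.IsQuasiSeparatedSp Y.obj →
    ∃ (X' : AlgSp.Space S) (i : X ⟶ X') (f' : X' ⟶ Y), i ≫ f' = f ∧
      AlgSp.RepWith @IsClosedImmersion i.hom ∧ AlgSp.IsFinitePresentationMor f'.hom

/-- Descent of finitely presented spaces to a stage. -/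
def FpDesc (S : Scheme.{u}) : Prop :=
  ∀ {I : Type u} [SmallCategory I] [IsCofiltered I]
    (D : I ⥤ AlgSp.Sp S) (_ : ∀ i, AlgSp.IsAlgSpace (D.obj i))
    (_ : ∀ (i j : I) (φ : i ⟶ j), AlgSp.IsAffineMor (D.map φ))
    (_ : ∀ i, AlgSp.IsQuasiCompactSp (D.obj i)) (_ : ∀ i, AlgSp.IsQuasiSeparatedSp (D.obj i))
    (c : Cone D) (_ : IsLimit c) (X : Sp S) (_ : IsAlgSpace X) (a : X ⟶ c.pt) (_ : IsFinitePresentationMor a),
    ∃ (i : I) (W : Sp S) (w : W ⟶ D.obj i) (b : X ⟶ W), IsAlgSpace W ∧ IsFinitePresentationMor w ∧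
      IsPullback a b (c.π.app i) w

theorem main [QuasiSeparatedSpace S] (H37 : ClosedInFp S) (HD : FpDesc S) {I : Type u} [SmallCategory I] [IsCofiltered I]
    (D : I ⥤ AlgSp.Sp S) (hD : ∀ i, AlgSp.IsAlgSpace (D.obj i))
    (hDa : ∀ (i j : I) (φ : i ⟶ j), AlgSp.IsAffineMor (D.map φ))
    (hqc : ∀ i, AlgSp.IsQuasiCompactSp (D.obj i)) (hqs : ∀ i, AlgSp.IsQuasiSeparatedSp (D.obj i))
    (c : Cone D) (hc : IsLimit c)
    (X : AlgSp.Space S) (a : X.obj ⟶ c.pt) (haqs : AlgSp.IsQuasiSeparatedMor a) (hft : AlgSp.IsFiniteTypeMor a) :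
    ∃ (i : I) (W : AlgSp.Space S) (w : W.obj ⟶ D.obj i) (b : X.obj ⟶ W.obj),
      AlgSp.IsFiniteTypeMor w ∧ b ≫ w = a ≫ c.π.app i ∧
      ∀ (P : AlgSp.Sp S) (fst : P ⟶ c.pt) (snd : P ⟶ W.obj), IsPullback fst snd (c.π.app i) w →
        ∀ k : X.obj ⟶ P, k ≫ fst = a → k ≫ snd = b → AlgSp.RepWith @IsClosedImmersion k := by
  obtain ⟨i₀⟩ := IsCofiltered.nonempty (C := I)
  have hB : IsAlgSpace c.pt := K600.LimSpace.isAlgSpace_limit hD hDa hc
  have haff : IsAffineMor (c.π.app i₀) := K600.LimAff.isAffineMor_π hDa hc i₀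
  have hBqc : IsQuasiCompactSp c.pt := K636.QcqsOver.isQuasiCompactSp_of_mor
    (K605.LimImg.isQuasiCompactMor_of_isAffineMor hB (hD i₀) haff) (hD i₀) (hqc i₀)
  have hBqs : IsQuasiSeparatedSp c.pt := K636.QcqsOver.isQuasiSeparatedSp_of_mor
    (isQuasiSeparatedMor_of_isAffineMor haff) (hqs i₀)
  obtain ⟨X', j, f', hjf, hj, hf'⟩ := H37 (X := X) (Y := ⟨c.pt, hB⟩) ⟨a⟩ hft.1
    (K636.QcqsOver.isQuasiCompactSp_of_mor hft.2 hB hBqc) (K636.QcqsOver.isQuasiSeparatedSp_of_mor haqs hBqs) hBqc hBqs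
  obtain ⟨i, W, w, b, hW, hw, sq⟩ := HD D hD hDa hqc hqs c hc X'.obj X'.property f'.hom hf'
  have hjf' : j.hom ≫ f'.hom = a := congrArg (fun m => m.hom) hjf
  refine ⟨i, ⟨W, hW⟩, w, j.hom ≫ b, ⟨?_, hw.2.1⟩, ?_, ?_⟩
  · intro U V a b h ha hb e
    have := hw.1 a b h ha hb e
    infer_instance
  · rw [Category.assoc, ← sq.w, ← Category.assoc, hjf']
  · intro P fst snd sqP k h1 h2
    have hk : k = j.hom ≫ (sq.isoIsPullback _ _ sqP).hom := by
      apply sqP.hom_ext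
      · rw [h1, Category.assoc, IsPullback.isoIsPullback_hom_fst, hjf']
      · rw [h2, Category.assoc, IsPullback.isoIsPullback_hom_snd]
    rw [hk]
    exact MorphismProperty.comp_mem _ _ _ hj (repWith_of_isIso _)

end K604.GoodDiag
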