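import Groth.Agent.AlgSp.K604.LimSepY
import Groth.Agent.S10006

/-!
# Affineness descends to a finite level in a limit with affine transition maps, over a quasi-compact base
-/

set_option autoImplicit false
universe u

open CategoryTheory CategoryTheory.Limits AlgebraicGeometry Opposite

namespace K604.LimAffY

open AlgSp K600.LimSys K600.LimAff K613.Cover K613.Chart K613.Diag K604.LimSep K604.LimSep2 K604.LimSepY

variable {S : Scheme.{u}} {F G H P Q X Y Z : Sp S}

theorem isAffineMor_comp {f : X ⟶ Y} {g : Y ⟶ Z} (hf : IsAffineMor f) (hg : IsAffineMor g) : IsAffineMor (f ≫ g) :=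
  K597.Affine.isAffineMor_of_repWith ((repWith_isMultiplicative (S := S) @IsAffineHom).comp_mem _ _
    (K597.Affine.repWith_of_isAffineMor hf) (K597.Affine.repWith_of_isAffineMor hg))

theorem isAffineMor_of_isPullback {f : X ⟶ Y} (hf : IsAffineMor f) {g : Z ⟶ Y} {fst : P ⟶ X} {snd : P ⟶ Z}
    (sq : IsPullback fst snd f g) : IsAffineMor snd :=
  K597.Affine.isAffineMor_of_repWith ((repWith_isStableUnderBaseChange (S := S) @IsAffineHom).of_isPullback sq
    (K597.Affine.repWith_of_isAffineMor hf))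

/-- the morphism `h_T ⟶ h_W` between affine schemes is affine -/
theorem isAffineMor_yon {T W : Over S} (hT : IsAffine T.left) (hW : IsAffine W.left) (f : (yon S).obj T ⟶ (yon S).obj W) :
    IsAffineMor f := by
  obtain ⟨f, rfl⟩ := (yon S).map_surjective f
  refine K597.Affine.isAffineMor_of_repWith ((repWith_yon_map_iff _ _).2 ?_)
  change IsAffineHom f.left
  infer_instance

theorem exists_isAffineMor [QuasiSeparatedSpace ↥S] {Y : Sp S} (hY : IsAlgSpace Y) (hYqc : IsQuasiCompactSp Y)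
    (hYqs : IsQuasiSeparatedSp Y)
    {I : Type u} [SmallCategory I] [IsCofiltered I] {D : I ⥤ Sp S}
    (hD : ∀ i, IsAlgSpace (D.obj i)) (hDa : ∀ (i j : I) (φ : i ⟶ j), IsAffineMor (D.map φ))
    (hqc : ∀ i, IsQuasiCompactSp (D.obj i)) (hqs : ∀ i, IsQuasiSeparatedSp (D.obj i))
    {c : Cone D} (hc : IsLimit c) (t : ∀ i, D.obj i ⟶ Y) (ht : ∀ {i j : I} (φ : i ⟶ j), D.map φ ≫ t j = t i)
    (g : c.pt ⟶ Y) (hg : ∀ i, c.π.app i ≫ t i = g) (hX : IsAffineMor g) :
    ∃ i₀, ∀ i, (i ⟶ i₀) → IsAffineMor (t i) := by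
  obtain ⟨W, w, hW, hw, hws⟩ := exists_affine_chart hYqc
  have : IsConnected I := IsCofiltered.isConnected _
  obtain ⟨D', α, β, c', hc', a, b, sq, hα, sqg, h1, h2⟩ := exists_bc_system w t (fun {j k} φ => ht φ) hc g hg
  have hD'a : ∀ (j k : I) (φ : j ⟶ k), IsAffineMor (D'.map φ) := fun j k φ =>
    isAffineMor_of_isPullback (hDa _ _ φ) (hα φ).flip
  have hwqc : IsQuasiCompactMor w :=
    K596.QC2.isQuasiCompactMor_of_qc_of_qs (IsAlgSpace.yon_obj _) hY w (K596.QC.isQuasiCompactSp_yon _) hYqs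
  have hD' : ∀ j, IsAlgSpace (D'.obj j) := fun j =>
    isAlgSpace_of_isPullback hY.diag (IsAlgSpace.yon_obj _) (hD j) (sq j)
  have hqc' : ∀ j, IsQuasiCompactSp (D'.obj j) := fun j => hwqc (hD j) (hqc j) _ _ _ (sq j)
  have hqs' : ∀ j, IsQuasiSeparatedSp (D'.obj j) := fun j =>
    K596.QC2.repWith_diag_of_isPullback (isQuasiSeparatedSp_yon hW) (hqs j) (sq j)
  obtain ⟨T, u, v, sqT, hT⟩ := hX hW w
  let e : (yon S).obj T ≅ c'.pt := sqT.isoIsPullback _ _ sqg.flip
  obtain ⟨i, T', hT', ⟨e'⟩⟩ := Groth.Agent.S10006.result S D' hD' hD'a hqc' hqs' c' hc' T hT e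
  have hβ : IsAffineMor (β.app i) := by
    have h3 := isAffineMor_yon hT' hW (e'.hom ≫ β.app i)
    have h4 : β.app i = e'.inv ≫ e'.hom ≫ β.app i := by rw [e'.inv_hom_id_assoc]
    rw [h4]
    refine isAffineMor_comp (K597.Affine.isAffineMor_of_repWith ?_) h3
    have h5 := repWith_isMultiplicative (S := S) @IsAffineHom.{u}
    have h6 := repWith_isStableUnderBaseChange (S := S) @IsAffineHom.{u}
    exact MorphismProperty.of_isIso (RepWith @IsAffineHom) e'.inv
  have hti : IsAffineMor (t i) := K597.Affine.isAffineMor_of_cover (sq i).flip hw hws hβ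
  refine ⟨i, fun k φ => ?_⟩
  rw [← ht φ]
  exact isAffineMor_comp (hDa _ _ φ) hti

end K604.LimAffY
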