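import Groth.Agent.AlgSp.K604.LimRed
import Groth.Agent.AlgSp.K603.Points
import Groth.Agent.AlgSp.K609.Points
import Groth.Agent.AlgSp.K618.FieldFib
import Groth.Agent.S2152
import Mathlib.CategoryTheory.CofilteredSystem

/-!
# The points of a limit of decent algebraic spaces with affine transition maps
-/

set_option autoImplicit false
universe u

open CategoryTheory CategoryTheory.Limits AlgebraicGeometry Opposite

namespace K604.LimPts

open AlgSp K600.LimSys K600.LimAff

section SchemeLevel

variable {I : Type u} [SmallCategory I] [IsCofiltered I] (D : I ⥤ Scheme.{u}) (c : Cone D) (hc : IsLimit c)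
  (hA : ∀ {i j : I} (f : i ⟶ j), IsAffineHom (D.map f))

include hc hA

theorem exists_point_of_sections (w : ∀ i, ↥(D.obj i)) (hw : ∀ {i j : I} (f : i ⟶ j), D.map f (w i) = w j) :
    ∃ v : ↥c.pt, ∀ i, c.π.app i v = w i := by
  haveI : ∀ (i j : I) (f : i ⟶ j), IsAffineHom (D.map f) := fun i j f => hA f
  obtain ⟨h⟩ := Groth.Agent.S2152.result D c hc
  have h2 := isLimitOfPreserves (forget TopCat) h
  let e := Types.isLimitEquivSections h2
  obtain ⟨v, hv⟩ := e.surjective ⟨fun i => w i, fun {i j} f => hw f⟩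
  refine ⟨v, fun i => ?_⟩
  have := congrFun (congrArg Subtype.val hv) i
  exact this

theorem point_ext (v v' : ↥c.pt) (h : ∀ i, c.π.app i v = c.π.app i v') : v = v' := by
  haveI : ∀ (i j : I) (f : i ⟶ j), IsAffineHom (D.map f) := fun i j f => hA f
  obtain ⟨hl⟩ := Groth.Agent.S2152.result D c hc
  have h2 := isLimitOfPreserves (forget TopCat) hl
  let e := Types.isLimitEquivSections h2
  apply e.injective
  apply Subtype.ext
  funext i
  exact h i

end SchemeLevel

variable {S : Scheme.{u}} {I : Type u} [SmallCategory I] [IsCofiltered I] {D : I ⥤ Sp S}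

/-- Fibres of affine etale charts of a decent space are finite. -/
theorem finite_fibre {X : Sp S} (hX : IsDecent X) {U : Over S} {a : (yon S).obj U ⟶ X} (ha : RepWith @Etale a)
    [CompactSpace ↥U.left] (x : Points X) : (Points.ofPt a ⁻¹' {x}).Finite := by
  obtain ⟨p, rfl, hm, hq⟩ := hX x
  exact K618.FieldFib.finite_fibre p hq a ha

/-- An affine etale chart through a point. -/
theorem exists_affine_chart_at {X : Sp S} (hX : IsAlgSpace X) (x : Points X) :
    ∃ (U : Over S) (p : (yon S).obj U ⟶ X) (u : ↥U.left), IsAffine U.left ∧ RepWith @Etale p ∧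
      Points.ofPt p u = x := by
  obtain ⟨U, p, hp, hps⟩ := hX.atlas
  obtain ⟨u, rfl⟩ := K609.Points.surjective_ofPt_of_repWith_surjective hps x
  obtain ⟨W, hW, hu, -⟩ := exists_isAffineOpen_mem_and_subset (x := u) (U := ⊤) trivial
  refine ⟨Over.mk (W.ι ≫ U.hom), (yon S).map (Over.homMk W.ι rfl) ≫ p, ⟨u, hu⟩, hW,
    K618.FieldFib.repWith_etale_restrict hp W, ?_⟩
  rw [K609.Points.ofPt_yon_map_comp]
  rfl

theorem tr_ofPt {i : I} {U : Over S} {p : (yon S).obj U ⟶ D.obj i} (s : Sys D i p) {j k : Over i} (f : j ⟶ k)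
    (w : ↥(s.obj j).left) :
    Points.ofPt (s.fst k) ((s.tr f).left w) = Points.map (D.map f.left) (Points.ofPt (s.fst j) w) := by
  rw [← K609.Points.ofPt_yon_map_comp, s.tr_fst, Points.map_ofPt]

/-- Compatible families of points lift to the limit. -/
theorem exists_lift_of_sections (hD : ∀ i, IsAlgSpace (D.obj i))
    (hDa : ∀ (i j : I) (φ : i ⟶ j), IsAffineMor (D.map φ)) {c : Cone D} (hc : IsLimit c)
    (hdec : ∀ i, IsDecent (D.obj i)) (x : ∀ i, Points (D.obj i))
    (hx : ∀ (i j : I) (φ : i ⟶ j), Points.map (D.map φ) (x i) = x j) :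
    ∃ y : Points c.pt, ∀ i, Points.map (c.π.app i) y = x i := by
  obtain ⟨i⟩ := IsCofiltered.nonempty (C := I)
  obtain ⟨U, p, u, hU, hp, hu⟩ := exists_affine_chart_at (hD i) (x i)
  obtain ⟨s, V, a, b, hs, hV, sq⟩ := exists_sys_of_affine hDa hc hU p
  let F : Over i ⥤ Type u :=
    { obj := fun j => {w : ↥(s.obj j).left // Points.ofPt (s.fst j) w = x j.left}
      map := fun {j k} f => ↾(fun w => ⟨(s.W.map f).left w.1, by
        change Points.ofPt (s.fst k) ((s.tr f).left w.1) = x k.left
        rw [tr_ofPt, w.2, hx]⟩)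
      map_id := fun j => by
        ext w
        change (s.W.map (𝟙 j)).left w.1 = w.1
        rw [s.W.map_id]
        rfl
      map_comp := fun {j k l} f g => by
        ext w
        change (s.W.map (f ≫ g)).left w.1 = (s.W.map g).left ((s.W.map f).left w.1)
        rw [s.W.map_comp]
        rfl }
  haveI : ∀ j, Finite (F.obj j) := fun j => by
    haveI : IsAffine (s.obj j).left := hs j
    exact (finite_fibre (hdec j.left) (repWith_fst s hp j) (x j.left)).to_subtype
  haveI : ∀ j, Nonempty (F.obj j) := fun j => by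
    obtain ⟨w, hw, -⟩ := K603.Points.exists_ofPt_of_isPullback (s.sq j) (x j.left) u (by rw [hx, hu])
    exact ⟨⟨w, hw⟩⟩
  obtain ⟨w, hw⟩ := nonempty_sections_of_finite_cofiltered_system F
  obtain ⟨v, hv⟩ := exists_point_of_sections (s.W ⋙ Over.forget S) _ (s.isLimitConeLeft sq hc)
    (fun f => s.isAffineHom_map_of_isAffine hs f) (fun j => (w j).1) (fun {j k} f => by
      have := congrArg Subtype.val (hw f)
      exact this)
  refine ⟨Points.ofPt a v, fun k => ?_⟩
  have key : ∀ j : Over i, Points.map (c.π.app j.left) (Points.ofPt a v) = x j.left := by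
    intro j
    rw [Points.map_ofPt, ← s.proj_fst sq j, K609.Points.ofPt_yon_map_comp]
    have h1 : (s.proj sq j).left v = (w j).1 := hv j
    rw [h1]
    exact (w j).2
  obtain ⟨l, f, g, -⟩ := IsCofilteredOrEmpty.cone_objs i k
  rw [← c.w g, Points.map_comp]
  have h2 := key (Over.mk f)
  change Points.map (D.map g) (Points.map (c.π.app (Over.mk f).left) (Points.ofPt a v)) = x k
  rw [h2]
  exact hx _ _ g

/-- The projections separate the points of the limit. -/
theorem points_ext (hD : ∀ i, IsAlgSpace (D.obj i))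
    (hDa : ∀ (i j : I) (φ : i ⟶ j), IsAffineMor (D.map φ)) {c : Cone D} (hc : IsLimit c)
    (hdec : ∀ i, IsDecent (D.obj i)) (x x' : Points c.pt)
    (h : ∀ i, Points.map (c.π.app i) x = Points.map (c.π.app i) x') : x = x' := by
  obtain ⟨i⟩ := IsCofiltered.nonempty (C := I)
  obtain ⟨U, p, u, hU, hp, hu⟩ := exists_affine_chart_at (hD i) (Points.map (c.π.app i) x)
  obtain ⟨s, V, a, b, hs, hV, sq⟩ := exists_sys_of_affine hDa hc hU p
  have hcdec : IsDecent c.pt :=
    K618.FieldFib.isDecent_of_representable (c.π.app i)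
      (K597.Affine.repWith_of_isAffineMor (isAffineMor_π hDa hc i)).1 (hdec i)
  obtain ⟨v, hv, hvu⟩ := K603.Points.exists_ofPt_of_isPullback sq x u hu.symm
  -- the points of `V` over `x'` whose images in `W_j` agree with the image of `v`
  let T : Over i ⥤ Type u :=
    { obj := fun j => {v' : ↥V.left // Points.ofPt a v' = x' ∧ (s.proj sq j).left v' = (s.proj sq j).left v}
      map := fun {j k} f => ↾(fun v' => ⟨v'.1, v'.2.1, by
        have h1 : s.proj sq k = s.proj sq j ≫ s.tr f := by
          have := (s.cone sq).w f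
          exact this.symm
        rw [h1, Over.comp_left, Scheme.Hom.comp_apply, Scheme.Hom.comp_apply, v'.2.2]⟩)
      map_id := fun j => rfl
      map_comp := fun {j k l} f g => rfl }
  haveI : ∀ j, Finite (T.obj j) := fun j => by
    have h1 := finite_fibre hcdec (repWith_of_isPullback hp sq) x'
    have h2 : {v' : ↥V.left | Points.ofPt a v' = x' ∧ (s.proj sq j).left v' = (s.proj sq j).left v}.Finite :=
      h1.subset (fun v' hv' => hv'.1)
    exact h2.to_subtype
  haveI : ∀ j, Nonempty (T.obj j) := fun j => by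
    obtain ⟨v', hv', hv''⟩ := K603.Points.exists_ofPt_of_isPullback (s.isPullback_proj sq j) x'
      ((s.proj sq j).left v) (by
        rw [← h, ← hv, Points.map_ofPt, ← s.proj_fst sq j, K609.Points.ofPt_yon_map_comp])
    exact ⟨⟨v', hv', hv''⟩⟩
  obtain ⟨w, hw⟩ := nonempty_sections_of_finite_cofiltered_system T
  let j₀ : Over i := Over.mk (𝟙 i)
  have hconst : ∀ j, (w j).1 = (w j₀).1 := by
    intro j
    have := congrArg Subtype.val (hw (Over.homMk j.hom : j ⟶ j₀))
    exact this
  have hvw : v = (w j₀).1 := by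
    refine point_ext (s.W ⋙ Over.forget S) _ (s.isLimitConeLeft sq hc)
      (fun f => s.isAffineHom_map_of_isAffine hs f) _ _ fun j => ?_
    have h1 := (w j).2.2
    rw [hconst j] at h1
    exact h1.symm
  rw [← hv, hvw, (w j₀).2.1]

end K604.LimPts
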