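import Groth.Agent.AlgSp.K600.LimAff
import Groth.Agent.AlgSp.K613.Basic

/-!
# Morphisms of pulled back systems along a map of charts of a stage
-/

universe u

open CategoryTheory CategoryTheory.Limits AlgebraicGeometry Opposite
open AlgSp

set_option backward.isDefEq.respectTransparency false

namespace K604.SysMor

open K600 K600.LimSys

variable {S : Scheme.{u}} {I : Type u} [SmallCategory I] {D : I ⥤ Sp S} {i : I} {U U' : Over S}
  {p : (yon S).obj U ⟶ D.obj i} {p' : (yon S).obj U' ⟶ D.obj i} (s : Sys D i p) (s' : Sys D i p')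
  (g : U' ⟶ U) (hg : (yon S).map g ≫ p = p')

include hg in
theorem exists_mor (j : Over i) : ∃ l : s'.obj j ⟶ s.obj j, (yon S).map l ≫ s.fst j = s'.fst j ∧
    l ≫ s.snd j = s'.snd j ≫ g :=
  Basic.exists_lift (s.sq j) (s'.fst j) (s'.snd j ≫ g) (by
    rw [s'.w, Functor.map_comp, Category.assoc, hg])

/-- the map on level `j` induced by a map of charts. -/
noncomputable def mor (j : Over i) : s'.obj j ⟶ s.obj j := (exists_mor s s' g hg j).choose

@[reassoc]
theorem mor_fst (j : Over i) : (yon S).map (mor s s' g hg j) ≫ s.fst j = s'.fst j :=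
  (exists_mor s s' g hg j).choose_spec.1

@[reassoc]
theorem mor_snd (j : Over i) : mor s s' g hg j ≫ s.snd j = s'.snd j ≫ g :=
  (exists_mor s s' g hg j).choose_spec.2

@[reassoc]
theorem mor_naturality {j k : Over i} (f : j ⟶ k) : s'.tr f ≫ mor s s' g hg k = mor s s' g hg j ≫ s.tr f := by
  refine Basic.hom_ext (s.sq k) ?_ ?_
  · rw [Functor.map_comp, Functor.map_comp, Category.assoc, Category.assoc, mor_fst, s'.tr_fst, s.tr_fst,
      mor_fst_assoc]
  · rw [Category.assoc, Category.assoc, mor_snd, s'.tr_snd_assoc, s.tr_snd, mor_snd]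

/-- the natural transformation of systems induced by a map of charts. -/
noncomputable def nat : s'.W ⟶ s.W where
  app j := mor s s' g hg j
  naturality _ _ f := mor_naturality s s' g hg f

theorem isPullback_snd (j : Over i) : IsPullback (s'.snd j) (mor s s' g hg j) g (s.snd j) := by
  refine IsPullback.of_map (yon S) (mor_snd s s' g hg j).symm ?_
  refine (IsPullback.of_right (h₁₁ := (yon S).map (mor s s' g hg j)) (h₁₂ := s.fst j) (v₁₁ := (yon S).map (s'.snd j))
    (v₁₂ := (yon S).map (s.snd j)) (v₁₃ := D.map j.hom) (h₂₁ := (yon S).map g) (h₂₂ := p) ?_ ?_ (s.sq j)).flip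
  · rw [mor_fst, hg]
    exact s'.sq j
  · rw [← Functor.map_comp, ← Functor.map_comp, mor_snd]

theorem isPullback_tr {j k : Over i} (f : j ⟶ k) :
    IsPullback (s'.W.map f) (mor s s' g hg j) (mor s s' g hg k) (s.W.map f) := by
  have h1 := isPullback_snd s s' g hg k
  have h2 := isPullback_snd s s' g hg j
  refine IsPullback.of_right (h₁₁ := s'.W.map f) (h₁₂ := s'.snd k) (v₁₁ := mor s s' g hg j)
    (v₁₂ := mor s s' g hg k) (v₁₃ := g) (h₂₁ := s.W.map f) (h₂₂ := s.snd k) ?_ ?_ h1
  · rw [s'.W_map_snd, s.W_map_snd]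
    exact h2
  · exact mor_naturality s s' g hg f

end K604.SysMor
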