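import Groth.Agent.AlgSp.K604.GenLim
import Groth.Agent.AlgSp.K604.SysMor
import Groth.Agent.AlgSp.K604.LimRed
import Groth.Agent.AlgSp.K596.QC2
import Groth.Agent.AlgSp.K609.Sep
import Groth.Agent.AlgSp.K613.Diag

/-!
# Separatedness descends to a finite level in a limit with affine transition maps
-/

set_option autoImplicit false
universe u

open CategoryTheory CategoryTheory.Limits AlgebraicGeometry Opposite

namespace K604.LimSep

open AlgSp K600.LimSys K600.LimAff K604.GenLim K604.SysMor K613.Cover K613.Chart K613.Diag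

variable {S : Scheme.{u}} {F G H P Q X Y Z : Sp S}

/-- A property of the diagonal can be checked on a chart. -/
theorem repWith_diagonal_of_chart {Pr : MorphismProperty Scheme.{u}} [Pr.DescendsAlong fppf.{u}]
    [Pr.IsStableUnderBaseChange] {f : X ⟶ Y} (hX : Representable (Limits.diag X)) {u : H ⟶ X} (hu : FSurj u)
    {T : Over S} {t₁ t₂ : (yon S).obj T ⟶ H} (sqT : IsPullback t₁ t₂ (u ≫ f) (u ≫ f)) {E : Over S} {e : E ⟶ T}
    (he : IsEq (t₁ ≫ u) (t₂ ≫ u) e) (h : Pr e.left) : RepWith Pr (pullback.diagonal f) := by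
  have hab : (t₁ ≫ u) ≫ f = (t₂ ≫ u) ≫ f := by
    rw [Category.assoc, Category.assoc]; exact sqT.w
  have hF : FSurj (pullback.lift (t₁ ≫ u) (t₂ ≫ u) hab) := by
    intro T' x
    obtain ⟨T₁, c₁, h₁, hc₁, e₁⟩ := hu T' (x ≫ pullback.fst f f)
    obtain ⟨T₂, c₂, h₂, hc₂, e₂⟩ := hu T₁ ((yon S).map c₁ ≫ x ≫ pullback.snd f f)
    have hw : ((yon S).map c₂ ≫ h₁) ≫ u ≫ f = h₂ ≫ u ≫ f := by
      rw [← Category.assoc h₂, e₂, Category.assoc, ← Category.assoc h₁, e₁]
      simp only [Category.assoc]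
      rw [pullback.condition]
    refine ⟨T₂, c₂ ≫ c₁, sqT.lift _ _ hw, hc₁.comp hc₂, ?_⟩
    apply pullback.hom_ext
    · rw [Category.assoc, pullback.lift_fst, ← Category.assoc, sqT.lift_fst, Category.assoc, e₁, Functor.map_comp]
      simp only [Category.assoc]
    · rw [Category.assoc, pullback.lift_snd, ← Category.assoc, sqT.lift_snd, e₂, Functor.map_comp]
      simp only [Category.assoc]
  exact hF.repWith (isPullback_diagonal he f hab) (representable_diagonal hX f) ((repWith_yon_map_iff _ _).2 h)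

/-- A relation `R = V ×_X V` as an equalizer locus in `T = V ×_Y V`. -/
theorem isEq_of_rel {U : Over S} {u : (yon S).obj U ⟶ X} {f : X ⟶ Y} {R : Over S} {r₁ r₂ : R ⟶ U}
    (sqR : IsPullback ((yon S).map r₁) ((yon S).map r₂) u u) {T : Over S} {t₁ t₂ : T ⟶ U}
    (sqT : IsPullback ((yon S).map t₁) ((yon S).map t₂) (u ≫ f) (u ≫ f)) {δ : R ⟶ T} (h₁ : δ ≫ t₁ = r₁)
    (h₂ : δ ≫ t₂ = r₂) : IsEq ((yon S).map t₁ ≫ u) ((yon S).map t₂ ≫ u) δ := by
  refine ⟨?_, fun A a ha => ?_⟩
  · rw [← Category.assoc, ← Category.assoc, ← Functor.map_comp, ← Functor.map_comp, h₁, h₂, sqR.w]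
  · have hw : (yon S).map (a ≫ t₁) ≫ u = (yon S).map (a ≫ t₂) ≫ u := by
      rw [Functor.map_comp, Functor.map_comp, Category.assoc, Category.assoc, ha]
    obtain ⟨l, hl⟩ := (yon S).map_surjective (sqR.lift _ _ hw)
    have hl1 : l ≫ r₁ = a ≫ t₁ := by
      apply (yon S).map_injective
      rw [Functor.map_comp, hl, sqR.lift_fst]
    have hl2 : l ≫ r₂ = a ≫ t₂ := by
      apply (yon S).map_injective
      rw [Functor.map_comp, hl, sqR.lift_snd]
    refine ⟨l, ?_, fun m hm => ?_⟩
    · dsimp only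
      apply (yon S).map_injective
      apply sqT.hom_ext
      · rw [← Functor.map_comp, ← Functor.map_comp, Category.assoc, h₁, hl1]
      · rw [← Functor.map_comp, ← Functor.map_comp, Category.assoc, h₂, hl2]
    · dsimp only at hm
      apply (yon S).map_injective
      apply sqR.hom_ext
      · rw [← Functor.map_comp, ← Functor.map_comp, hl1, ← h₁, ← Category.assoc, hm]
      · rw [← Functor.map_comp, ← Functor.map_comp, hl2, ← h₂, ← Category.assoc, hm]

/-- The relation of the pulled back chart. -/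
theorem isPullback_rel {f : X ⟶ G} {U V R V' : Over S} {p : (yon S).obj U ⟶ G} {p' : (yon S).obj R ⟶ G}
    {r₁ r₂ : R ⟶ U} (h₁ : (yon S).map r₁ ≫ p = p')
    (sq₀ : IsPullback ((yon S).map r₁) ((yon S).map r₂) p p) {a : (yon S).obj V ⟶ X} {b : V ⟶ U}
    (sq : IsPullback a ((yon S).map b) f p) {a' : (yon S).obj V' ⟶ X} {b' : V' ⟶ R}
    (sq' : IsPullback a' ((yon S).map b') f p') {ρ₁ ρ₂ : V' ⟶ V} (e₁ : (yon S).map ρ₁ ≫ a = a')
    (e₁' : ρ₁ ≫ b = b' ≫ r₁) (e₂ : (yon S).map ρ₂ ≫ a = a') (e₂' : ρ₂ ≫ b = b' ≫ r₂) :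
    IsPullback ((yon S).map ρ₁) ((yon S).map ρ₂) a a := by
  refine K613.Basic.isPullback_of_yon (e₁.trans e₂.symm) fun T x y hxy => ?_
  obtain ⟨x, rfl⟩ := (yon S).map_surjective x
  obtain ⟨y, rfl⟩ := (yon S).map_surjective y
  have hw : (yon S).map (x ≫ b) ≫ p = (yon S).map (y ≫ b) ≫ p := by
    rw [Functor.map_comp, Functor.map_comp, Category.assoc, Category.assoc, ← sq.w, ← Category.assoc, hxy,
      Category.assoc]
  obtain ⟨l, hl⟩ := (yon S).map_surjective (sq₀.lift _ _ hw)
  have hl1 : l ≫ r₁ = x ≫ b := by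
    apply (yon S).map_injective
    rw [Functor.map_comp, hl, sq₀.lift_fst]
  have hl2 : l ≫ r₂ = y ≫ b := by
    apply (yon S).map_injective
    rw [Functor.map_comp, hl, sq₀.lift_snd]
  obtain ⟨m, hm⟩ := (yon S).map_surjective (sq'.lift ((yon S).map x ≫ a) ((yon S).map l) (by
    rw [Category.assoc, sq.w, ← h₁, ← Category.assoc, ← Category.assoc, ← Functor.map_comp, ← Functor.map_comp,
      hl1]))
  have hm1 : (yon S).map m ≫ a' = (yon S).map x ≫ a := by rw [hm, sq'.lift_fst]
  have hm2 : m ≫ b' = l := by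
    apply (yon S).map_injective
    rw [Functor.map_comp, hm, sq'.lift_snd]
  refine ⟨(yon S).map m, ⟨?_, ?_⟩, fun n hn => ?_⟩
  · apply sq.hom_ext
    · rw [Category.assoc, e₁, hm1]
    · rw [← Functor.map_comp, ← Functor.map_comp, ← Functor.map_comp, Category.assoc, e₁', ← Category.assoc, hm2, hl1]
  · apply sq.hom_ext
    · rw [Category.assoc, e₂, hm1, hxy]
    · rw [← Functor.map_comp, ← Functor.map_comp, ← Functor.map_comp, Category.assoc, e₂', ← Category.assoc, hm2, hl2]
  · obtain ⟨n, rfl⟩ := (yon S).map_surjective n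
    obtain ⟨hn1, hn2⟩ := hn
    apply sq'.hom_ext
    · rw [hm1, ← e₁, ← Category.assoc, hn1]
    · rw [← Functor.map_comp, ← Functor.map_comp, hm2]
      apply sq₀.hom_ext
      · rw [← Functor.map_comp, ← Functor.map_comp, hl1, Category.assoc, ← e₁', ← Category.assoc]
        have : n ≫ ρ₁ = x := by
          apply (yon S).map_injective
          rw [Functor.map_comp, hn1]
        rw [this]
      · rw [← Functor.map_comp, ← Functor.map_comp, hl2, Category.assoc, ← e₂', ← Category.assoc]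
        have : n ≫ ρ₂ = y := by
          apply (yon S).map_injective
          rw [Functor.map_comp, hn2]
        rw [this]

end K604.LimSep
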