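import Groth.Agent.AlgSp.K604.LimSep
import Groth.Agent.AlgSp.K595.DiagBasic

/-!
# Separatedness descends to a finite level in a limit with affine transition maps: affine target
-/

set_option autoImplicit false
universe u

open CategoryTheory CategoryTheory.Limits AlgebraicGeometry Opposite

namespace K604.LimSep2

open AlgSp K600.LimSys K600.LimAff K604.GenLim K604.SysMor K613.Cover K613.Chart K613.Diag K604.LimSep

variable {S : Scheme.{u}} {I : Type u} [SmallCategory I] [IsCofiltered I] {D : I ⥤ Sp S}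

/-- a morphism between affine schemes whose image on global sections contains generators is a closed immersion -/
theorem isClosedImmersion_of_gen {A B : Scheme.{u}} [IsAffine A] [IsAffine B] {U₁ U₂ : Scheme.{u}} (δ : A ⟶ B)
    (t₁ : B ⟶ U₁) (t₂ : B ⟶ U₂) (h : gen (δ ≫ t₁).appTop.hom (δ ≫ t₂).appTop.hom = ⊤) : IsClosedImmersion δ := by
  refine IsClosedImmersion.of_surjective_of_isAffine δ ?_
  have h1 : gen (δ ≫ t₁).appTop.hom (δ ≫ t₂).appTop.hom ≤ δ.appTop.hom.range := by
    refine gen_le (fun x => ?_) (fun x => ?_)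
    · exact ⟨t₁.appTop.hom x, by rw [Scheme.Hom.comp_appTop]; rfl⟩
    · exact ⟨t₂.appTop.hom x, by rw [Scheme.Hom.comp_appTop]; rfl⟩
  rw [h, top_le_iff] at h1
  exact RingHom.range_eq_top.1 h1

/-- conversely for a fibre product over an affine scheme -/
theorem gen_of_isClosedImmersion {A B : Scheme.{u}} [IsAffine A] {U₁ U₂ W : Scheme.{u}} [IsAffine U₁] [IsAffine U₂]
    [IsAffine W] {w₁ : U₁ ⟶ W} {w₂ : U₂ ⟶ W} (δ : A ⟶ B) {t₁ : B ⟶ U₁} {t₂ : B ⟶ U₂}
    (sq : IsPullback t₁ t₂ w₁ w₂) [IsClosedImmersion δ] :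
    gen (δ ≫ t₁).appTop.hom (δ ≫ t₂).appTop.hom = ⊤ := by
  have h1 := gen_eq_top_of_isPushout (isPushout_appTop_of_isPullback sq)
  haveI : IsAffine B := by
    have : IsAffine (pullback w₁ w₂) := inferInstance
    exact IsAffine.of_isIso sq.isoPullback.hom
  have hsurj : Function.Surjective δ.appTop.hom := (IsClosedImmersion.isAffine_surjective_of_isAffine δ).2
  rw [eq_top_iff]
  intro y _
  obtain ⟨x, rfl⟩ := hsurj y
  have hx : x ∈ gen t₁.appTop.hom t₂.appTop.hom := by rw [h1]; trivial
  refine map_mem δ.appTop.hom (RingHom.id _) (RingHom.id _) ?_ ?_ hx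
  · rw [Scheme.Hom.comp_appTop]; rfl
  · rw [Scheme.Hom.comp_appTop]; rfl

theorem isSeparatedMor_of_isAffineMor {X Y : Sp S} {f : X ⟶ Y} (hf : IsAffineMor f) : IsSeparatedMor f := by
  have h := K597.Affine.repWith_of_isAffineMor hf
  refine (K595.DiagBasic.isSeparatedMor_iff_repWith h.1).2 ⟨h.1, fun T V g fst snd sq => ?_⟩
  have : IsAffineHom snd.left := h.2 g fst snd sq
  change IsSeparated snd.left
  infer_instance

theorem mono_relLift {X : Sp S} {U R : Over S} {p : (yon S).obj U ⟶ X} {r₁ r₂ : R ⟶ U}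
    (sq₀ : IsPullback ((yon S).map r₁) ((yon S).map r₂) p p) :
    Mono (pullback.lift r₁.left r₂.left ((Over.w r₁).trans (Over.w r₂).symm) : R.left ⟶ pullback U.hom U.hom) := by
  refine ⟨fun {T} x y hxy => ?_⟩
  have h1 : x ≫ r₁.left = y ≫ r₁.left := by
    have := congrArg (· ≫ pullback.fst U.hom U.hom) hxy
    simpa only [Category.assoc, pullback.lift_fst] using this
  have h2 : x ≫ r₂.left = y ≫ r₂.left := by
    have := congrArg (· ≫ pullback.snd U.hom U.hom) hxy
    simpa only [Category.assoc, pullback.lift_snd] using this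
  let T' : Over S := Over.mk (x ≫ R.hom)
  let x' : T' ⟶ R := Over.homMk x rfl
  let y' : T' ⟶ R := Over.homMk y (by
    change y ≫ R.hom = x ≫ R.hom
    rw [← Over.w r₁, ← Category.assoc, ← Category.assoc, h1])
  have hxy' : x' = y' := by
    apply (yon S).map_injective
    apply sq₀.hom_ext
    · rw [← Functor.map_comp, ← Functor.map_comp]
      congr 1
      ext : 1
      exact h1
    · rw [← Functor.map_comp, ← Functor.map_comp]
      congr 1
      ext : 1
      exact h2
  exact congrArg Over.Hom.left hxy'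

theorem quasiSeparatedSpace_rel {X : Sp S} {U R : Over S} (hU : IsAffine U.left) {p : (yon S).obj U ⟶ X}
    {r₁ r₂ : R ⟶ U} (sq₀ : IsPullback ((yon S).map r₁) ((yon S).map r₂) p p) : QuasiSeparatedSpace R.left := by
  have := mono_relLift sq₀
  have h1 : IsSeparated (pullback.lift r₁.left r₂.left ((Over.w r₁).trans (Over.w r₂).symm) ≫
      pullback.fst U.hom U.hom) := inferInstance
  rw [pullback.lift_fst] at h1
  exact quasiSeparatedSpace_of_quasiSeparated r₁.left

end K604.LimSep2
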