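import Groth.Agent.AlgSp.K604.LimSep2
import Groth.Agent.Etbase.FpqcDescent

/-!
# Separatedness descends to a finite level in a limit with affine transition maps: affine target, main proof
-/

set_option autoImplicit false
universe u

open CategoryTheory CategoryTheory.Limits AlgebraicGeometry Opposite

namespace K604.LimSep3

open AlgSp K600.LimSys K600.LimAff K604.GenLim K604.SysMor K613.Cover K613.Chart K613.Diag K604.LimSep K604.LimSep2

variable {S : Scheme.{u}} {I : Type u} [SmallCategory I] [IsCofiltered I] {D : I ⥤ Sp S}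

theorem exists_isSeparatedMor_of_affine [QuasiSeparatedSpace ↥S] {W : Over S} (hW : IsAffine W.left)
    (hD : ∀ i, IsAlgSpace (D.obj i)) (hDa : ∀ (i j : I) (φ : i ⟶ j), IsAffineMor (D.map φ))
    (hqc : ∀ i, IsQuasiCompactSp (D.obj i)) (hqs : ∀ i, IsQuasiSeparatedSp (D.obj i))
    {c : Cone D} (hc : IsLimit c) (t : ∀ i, D.obj i ⟶ (yon S).obj W)
    (ht : ∀ {i j : I} (φ : i ⟶ j), D.map φ ≫ t j = t i)
    (g : c.pt ⟶ (yon S).obj W) (hg : ∀ i, c.π.app i ≫ t i = g) (hX : IsSeparatedMor g) :
    ∃ i, IsSeparatedMor (t i) := by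
  obtain ⟨i⟩ := IsCofiltered.nonempty (C := I)
  obtain ⟨U, p, hU, hp, hps⟩ := exists_affine_chart (hqc i)
  obtain ⟨s, V, a, b, hs, hV, sq⟩ := exists_sys_of_affine hDa hc hU p
  -- the relation
  obtain ⟨R, r₂, k, sq₀⟩ := hp.1 p
  obtain ⟨r₁, rfl⟩ := (yon S).map_surjective k
  have hRc : CompactSpace R.left := K609.Sep.compactSpace_pullback (hqs i) sq₀
  have hRs : QuasiSeparatedSpace R.left := quasiSeparatedSpace_rel hU sq₀
  have hr₁ : Etale r₁.left := hp.2 _ _ _ sq₀.flip
  obtain ⟨s', V', a', b', hs', sq'⟩ := LimRed.exists_sys hDa hc ((yon S).map r₁ ≫ p)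
  have haff : ∀ j, IsAffineHom (s'.snd j).left := fun j =>
    (K597.Affine.repWith_of_isAffineMor (hDa _ _ j.hom)).2 _ _ _ (s'.sq j)
  have hcomp : ∀ j, CompactSpace ((s'.W ⋙ Over.forget S).obj j) := fun j => by
    have := haff j
    change CompactSpace (s'.obj j).left
    exact QuasiCompact.compactSpace_of_compactSpace (s'.snd j).left
  have hqsp : ∀ j, QuasiSeparatedSpace ((s'.W ⋙ Over.forget S).obj j) := fun j => by
    have := haff j
    change QuasiSeparatedSpace (s'.obj j).left
    exact quasiSeparatedSpace_of_quasiSeparated (s'.snd j).left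
  have hAff' : ∀ {j k : Over i} (f : j ⟶ k), IsAffineHom ((s'.W ⋙ Over.forget S).map f) := hs'
  -- the limit relation
  obtain ⟨ρ₁, hρ₁, hρ₁'⟩ := K600.Basic.exists_lift sq a' (b' ≫ r₁) (by
    rw [sq'.w, Functor.map_comp, Category.assoc])
  obtain ⟨ρ₂, hρ₂, hρ₂'⟩ := K600.Basic.exists_lift sq a' (b' ≫ r₂) (by
    rw [sq'.w, Functor.map_comp, Category.assoc, sq₀.w])
  have sqV : IsPullback ((yon S).map ρ₁) ((yon S).map ρ₂) a a := isPullback_rel rfl sq₀ sq sq' hρ₁ hρ₁' hρ₂ hρ₂'
  obtain ⟨q, hq⟩ := (yon S).map_surjective (a ≫ g)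
  have sqT : IsPullback ((yon S).map (pullback.fst q q)) ((yon S).map (pullback.snd q q)) (a ≫ g) (a ≫ g) := by
    rw [← hq]; exact (IsPullback.of_hasPullback q q).map (yon S)
  have hρq : ρ₁ ≫ q = ρ₂ ≫ q := by
    apply (yon S).map_injective
    rw [Functor.map_comp, Functor.map_comp, hq, ← Category.assoc, ← Category.assoc, sqV.w]
  have he := isEq_of_rel (f := g) sqV sqT (δ := pullback.lift ρ₁ ρ₂ hρq) (pullback.lift_fst _ _ _)
    (pullback.lift_snd _ _ _)
  have hδ : IsClosedImmersion (pullback.lift ρ₁ ρ₂ hρq).left := prop_of_isEq hX (by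
    rw [Category.assoc, Category.assoc]; exact sqT.w) he
  have sqT' := (IsPullback.of_hasPullback q q).map (Over.forget S)
  haveI : IsAffine V.left := hV
  haveI : IsAffine ((Over.forget S).obj V) := hV
  haveI : IsAffine ((Over.forget S).obj W) := hW
  haveI hTa : IsAffine (pullback q q).left := by
    have : IsAffine (pullback ((Over.forget S).map q) ((Over.forget S).map q)) := inferInstance
    exact IsAffine.of_isIso sqT'.isoPullback.hom
  haveI hV'a : IsAffine V'.left := (IsClosedImmersion.isAffine_surjective_of_isAffine (pullback.lift ρ₁ ρ₂ hρq).left).1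
  have hgen : gen ρ₁.left.appTop.hom ρ₂.left.appTop.hom = ⊤ := by
    have h1 := gen_of_isClosedImmersion (pullback.lift ρ₁ ρ₂ hρq).left sqT'
    have e1 : (pullback.lift ρ₁ ρ₂ hρq).left ≫ (Over.forget S).map (pullback.fst q q) = ρ₁.left := by
      change _ ≫ (pullback.fst q q).left = _
      rw [← Over.comp_left, pullback.lift_fst]
    have e2 : (pullback.lift ρ₁ ρ₂ hρq).left ≫ (Over.forget S).map (pullback.snd q q) = ρ₂.left := by
      change _ ≫ (pullback.snd q q).left = _
      rw [← Over.comp_left, pullback.lift_snd]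
    rw [e1, e2] at h1
    exact h1
  -- some level is affine
  haveI : IsAffine ((Over.forget S).mapCone (s'.cone sq')).pt := hV'a
  obtain ⟨j₁, hj₁⟩ := Scheme.exists_isAffine_of_isLimit (s'.W ⋙ Over.forget S) _ (s'.isLimitConeLeft sq' hc)
  have hproj₁ : ∀ j, ρ₁ ≫ s.proj sq j = s'.proj sq' j ≫ mor s s' r₁ rfl j := by
    intro j
    refine K600.Basic.hom_ext (s.sq j) ?_ ?_
    · rw [Functor.map_comp, Functor.map_comp, Category.assoc, Category.assoc, mor_fst, s.proj_fst, s'.proj_fst,
        ← Category.assoc, hρ₁]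
    · rw [Category.assoc, Category.assoc, mor_snd, s.proj_snd, s'.proj_snd_assoc, hρ₁']
  have hproj₂ : ∀ j, ρ₂ ≫ s.proj sq j = s'.proj sq' j ≫ mor s s' r₂ sq₀.w.symm j := by
    intro j
    refine K600.Basic.hom_ext (s.sq j) ?_ ?_
    · rw [Functor.map_comp, Functor.map_comp, Category.assoc, Category.assoc, mor_fst, s.proj_fst, s'.proj_fst,
        ← Category.assoc, hρ₂]
    · rw [Category.assoc, Category.assoc, mor_snd, s.proj_snd, s'.proj_snd_assoc, hρ₂']
  -- restrict to the levels over `j₁`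
  let F := Over.forget j₁
  have hlU : IsLimit (((Over.forget S).mapCone (s.cone sq)).whisker F) :=
    (Functor.Initial.isLimitWhiskerEquiv F _).symm (s.isLimitConeLeft sq hc)
  have hlR : IsLimit (((Over.forget S).mapCone (s'.cone sq')).whisker F) :=
    (Functor.Initial.isLimitWhiskerEquiv F _).symm (s'.isLimitConeLeft sq' hc)
  haveI : ∀ j, IsAffine ((F ⋙ s.W ⋙ Over.forget S).obj j) := fun j => hs j.left
  haveI : ∀ j, IsAffine ((F ⋙ s'.W ⋙ Over.forget S).obj j) := fun j => by
    have h1 : IsAffineHom ((s'.W ⋙ Over.forget S).map j.hom) := hAff' j.hom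
    have h2 : IsAffine ((s'.W ⋙ Over.forget S).obj j₁) := hj₁
    exact isAffine_of_isAffineHom ((s'.W ⋙ Over.forget S).map j.hom)
  let n₁ : F ⋙ s'.W ⋙ Over.forget S ⟶ F ⋙ s.W ⋙ Over.forget S :=
    Functor.whiskerLeft F (Functor.whiskerRight (nat s s' r₁ rfl) (Over.forget S))
  let n₂ : F ⋙ s'.W ⋙ Over.forget S ⟶ F ⋙ s.W ⋙ Over.forget S :=
    Functor.whiskerLeft F (Functor.whiskerRight (nat s s' r₂ sq₀.w.symm) (Over.forget S))
  obtain ⟨j, -, hj⟩ := exists_lv_eq_top n₁ n₂ hlU hlR ρ₁.left ρ₂.left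
    (fun j => congrArg Over.Hom.left (hproj₁ j.left)) (fun j => congrArg Over.Hom.left (hproj₂ j.left))
    (Over.mk (𝟙 j₁)) (fun {j} f => (isPullback_tr s s' r₁ rfl f.left).map (Over.forget S)) (by
      change LocallyOfFiniteType (mor s s' r₁ rfl j₁).left
      have h1 := ((isPullback_snd s s' r₁ rfl j₁).map (Over.forget S))
      have h2 : Etale (mor s s' r₁ rfl j₁).left := MorphismProperty.of_isPullback (P := @Etale) h1 hr₁
      infer_instance) hgen
  -- conclude at level `m`
  let m : Over i := j.left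
  have hj' : gen (mor s s' r₁ rfl m).left.appTop.hom (mor s s' r₂ sq₀.w.symm m).left.appTop.hom = ⊤ := hj
  have hRm : IsAffine (s'.obj m).left := by
    have h1 : IsAffine ((F ⋙ s'.W ⋙ Over.forget S).obj j) := inferInstance
    exact h1
  have hUm : IsAffine (s.obj m).left := hs m
  obtain ⟨qm, hqm⟩ := (yon S).map_surjective (s.fst m ≫ t m.left)
  have sqTm : IsPullback ((yon S).map (pullback.fst qm qm)) ((yon S).map (pullback.snd qm qm))
      (s.fst m ≫ t m.left) (s.fst m ≫ t m.left) := by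
    rw [← hqm]; exact (IsPullback.of_hasPullback qm qm).map (yon S)
  have sqRm : IsPullback ((yon S).map (mor s s' r₁ rfl m)) ((yon S).map (mor s s' r₂ sq₀.w.symm m))
      (s.fst m) (s.fst m) :=
    isPullback_rel rfl sq₀ (s.sq m) (s'.sq m) (mor_fst s s' r₁ rfl m) (mor_snd s s' r₁ rfl m)
      (mor_fst s s' r₂ sq₀.w.symm m) (mor_snd s s' r₂ sq₀.w.symm m)
  have hmq : mor s s' r₁ rfl m ≫ qm = mor s s' r₂ sq₀.w.symm m ≫ qm := by
    apply (yon S).map_injective
    rw [Functor.map_comp, Functor.map_comp, hqm, ← Category.assoc, ← Category.assoc, sqRm.w]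
  let δ : s'.obj m ⟶ pullback qm qm := pullback.lift _ _ hmq
  have hem := isEq_of_rel (f := t m.left) sqRm sqTm (δ := δ) (pullback.lift_fst _ _ _) (pullback.lift_snd _ _ _)
  have sqTm' := (IsPullback.of_hasPullback qm qm).map (Over.forget S)
  haveI : IsAffine ((Over.forget S).obj (s.obj m)) := hUm
  haveI : IsAffine (pullback qm qm).left := by
    have : IsAffine (pullback ((Over.forget S).map qm) ((Over.forget S).map qm)) := inferInstance
    exact IsAffine.of_isIso sqTm'.isoPullback.hom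
  have hδm : IsClosedImmersion δ.left := by
    refine isClosedImmersion_of_gen δ.left (pullback.fst qm qm).left (pullback.snd qm qm).left ?_
    have e1 : δ.left ≫ (pullback.fst qm qm).left = (mor s s' r₁ rfl m).left := by
      rw [← Over.comp_left, pullback.lift_fst]
    have e2 : δ.left ≫ (pullback.snd qm qm).left = (mor s s' r₂ sq₀.w.symm m).left := by
      rw [← Over.comp_left, pullback.lift_snd]
    rw [e1, e2]
    exact hj'
  have hu : FSurj (s.fst m) := (ESurj.of_repWith (repWith_fst s hp m) (repWith_fst s hps m)).fSurj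

  exact ⟨m.left, repWith_diagonal_of_chart (hD m.left).diag hu sqTm hem hδm⟩

end K604.LimSep3
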