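import Groth.Agent.AlgSp.K604.LimSep3
import Groth.Agent.AlgSp.K600.LimClosed
import Groth.Agent.AlgSp.K641.Pb
import Groth.Agent.AlgSp.K613.Unram

/-!
# Separatedness descends to a finite level in a limit with affine transition maps: general target
-/

set_option autoImplicit false
universe u

open CategoryTheory CategoryTheory.Limits AlgebraicGeometry Opposite

namespace K604.LimSepY

open AlgSp K600.LimSys K600.LimAff K604.GenLim K604.SysMor K613.Cover K613.Chart K613.Diag K604.LimSep K604.LimSep2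

variable {S : Scheme.{u}} {F G H P Q X Y Z : Sp S}

/-- A property of the diagonal can be checked after a base change whose image covers `X`. -/
theorem repWith_diagonal_of_local {Pr : MorphismProperty Scheme.{u}} [Pr.DescendsAlong fppf.{u}]
    [Pr.IsStableUnderBaseChange] {f : X ⟶ Y} (hX : Representable (pullback.diagonal f)) {b : H ⟶ Y} {fst : P ⟶ X}
    {snd : P ⟶ H} (sq : IsPullback fst snd f b) (hfst : FSurj fst) (h : RepWith Pr (pullback.diagonal snd)) :
    RepWith Pr (pullback.diagonal f) := by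
  rw [repWith_diagonal_iff] at h ⊢
  rw [representable_diagonal_iff] at hX
  intro T x y hxy
  obtain ⟨E, e, he⟩ := hX T x y hxy
  refine ⟨E, e, he, ?_⟩
  obtain ⟨T', c, x', hc, hx'⟩ := hfst T x
  let y' : (yon S).obj T' ⟶ P := sq.lift ((yon S).map c ≫ y) (x' ≫ snd) (by
    rw [Category.assoc, Category.assoc, ← sq.w, ← Category.assoc x', hx', Category.assoc, hxy])
  have hy1 : y' ≫ fst = (yon S).map c ≫ y := sq.lift_fst _ _ _
  have hy2 : y' ≫ snd = x' ≫ snd := sq.lift_snd _ _ _
  obtain ⟨E', e', he', hP⟩ := h T' x' y' hy2.symm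
  refine K613.Unram.prop_isEq_of_cover he hc (E' := E') (e' := e') ?_ hP
  refine ⟨?_, fun R r hr => ?_⟩
  · rw [← hx', ← hy1, ← Category.assoc, ← Category.assoc, he'.w]
  · refine he'.lift R r ?_
    apply sq.hom_ext
    · rw [Category.assoc, Category.assoc, hx', hy1]; exact hr
    · rw [Category.assoc, Category.assoc, hy2]

/-- an affine scheme is a quasi-separated space -/
theorem isQuasiSeparatedSp_yon {W : Over S} (hW : IsAffine W.left) : IsQuasiSeparatedSp ((yon S).obj W) := by
  refine K609.Sep.isQuasiSeparatedSp_of_affine (IsAlgSpace.yon_obj W).diag ?_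
  intro U V P a b fst snd hU hV sq
  obtain ⟨a, rfl⟩ := (yon S).map_surjective a
  obtain ⟨b, rfl⟩ := (yon S).map_surjective b
  have sq' : IsPullback fst.left snd.left a.left b.left := (IsPullback.of_map (yon S) (by
    apply (yon S).map_injective
    rw [Functor.map_comp, Functor.map_comp, sq.w]) sq).map (Over.forget S)
  have : IsAffine (pullback a.left b.left) := inferInstance
  have : IsAffine P.left := IsAffine.of_isIso sq'.isoPullback.hom
  infer_instance

/-- A quasi-compact chart of `F` over `Y` can be refined so as to factor through an affine scheme etale over `Y`. -/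
theorem exists_affine_nhd_of_image {F Y : Sp S} (hY : IsAlgSpace Y) (hF : IsQuasiCompactSp F) (f : F ⟶ Y) :
    ∃ (W : Over S) (w : (yon S).obj W ⟶ Y), IsAffine W.left ∧ RepWith @Etale w ∧
      ∀ (P : Sp S) (fst : P ⟶ F) (snd : P ⟶ (yon S).obj W), IsPullback fst snd f w → ESurj fst := by
  obtain ⟨V, q, hq, hqs⟩ := hY.atlas
  obtain ⟨U, p, v, hU, hp, hps, hv⟩ := K600.LimClosed.exists_affine_chart_over hF f q hq hqs
  obtain ⟨O', hOc, hOo, hO, -⟩ := PrespectralSpace.exists_isCompact_and_isOpen_between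
    (isCompact_range v.left.continuous) isOpen_univ (Set.subset_univ _)
  let O : V.left.Opens := ⟨O', hOo⟩
  have : CompactSpace O := isCompact_iff_compactSpace.mp hOc
  obtain ⟨A, α, hα1, hα2, hα3⟩ := Scheme.exists_hom_isAffine_of_isZariskiLocalAtSource (P := @Etale) (O : Scheme.{u})
  let W : Over S := Over.mk ((α ≫ O.ι) ≫ V.hom)
  let ω : W ⟶ V := Over.homMk (α ≫ O.ι) rfl
  have hω : Etale ω.left := inferInstanceAs (Etale (α ≫ O.ι))
  have hωr : ∀ y ∈ O, ∃ x : ↥W.left, ω.left x = y := by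
    intro y hy
    obtain ⟨x, hx⟩ := hα1.surj ⟨y, hy⟩
    refine ⟨x, ?_⟩
    change (α ≫ O.ι) x = y
    rw [Scheme.Hom.comp_apply, hx]
    rfl
  refine ⟨W, (yon S).map ω ≫ q, hα3, ?_, ?_⟩
  · exact (repWith_isMultiplicative (S := S) @Etale).comp_mem _ _ ((repWith_yon_map_iff _ _).2 hω) hq
  intro P fst snd sq T x
  obtain ⟨T₁, c₁, x₁, hc₁, hx₁⟩ := (ESurj.of_repWith hp hps) T x
  obtain ⟨x₁, rfl⟩ := (yon S).map_surjective x₁
  have sq₂ := IsPullback.of_hasPullback (x₁ ≫ v) ω
  have sq₂' := sq₂.map (Over.forget S)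
  have hc₂ : EtC (pullback.fst (x₁ ≫ v) ω) := by
    refine ⟨?_, ⟨fun t => ?_⟩⟩
    · exact MorphismProperty.of_isPullback (P := @Etale) sq₂'.flip hω
    · obtain ⟨w, hw⟩ := hωr ((x₁ ≫ v).left t) (hO ⟨x₁.left t, rfl⟩)
      obtain ⟨z, hz, -⟩ := Scheme.Pullback.exists_preimage_pullback (f := (x₁ ≫ v).left) (g := ω.left) t w hw.symm
      refine ⟨sq₂'.isoPullback.inv z, ?_⟩
      have := sq₂'.isoPullback_inv_fst
      change ((Over.forget S).map (pullback.fst (x₁ ≫ v) ω)) (sq₂'.isoPullback.inv z) = t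
      rw [← Scheme.Hom.comp_apply, this]
      exact hz
  refine ⟨_, pullback.fst (x₁ ≫ v) ω ≫ c₁, sq.lift ((yon S).map (pullback.fst (x₁ ≫ v) ω ≫ c₁) ≫ x)
    ((yon S).map (pullback.snd (x₁ ≫ v) ω)) ?_, hc₁.comp hc₂, sq.lift_fst _ _ _⟩
  rw [Functor.map_comp, Category.assoc, Category.assoc, ← Category.assoc ((yon S).map c₁), ← hx₁, Category.assoc,
    ← hv, ← Category.assoc, ← Category.assoc, ← Functor.map_comp, ← Functor.map_comp, ← Category.assoc,
    ← Functor.map_comp, Category.assoc, pullback.condition]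

/-- Base change of a cofiltered system over `Y` and of its limit along a map `w : H ⟶ Y`. -/
theorem exists_bc_system {J : Type u} [SmallCategory J] [IsConnected J] {D : J ⥤ Sp S} {Y H : Sp S} (w : H ⟶ Y)
    (z : ∀ j, D.obj j ⟶ Y) (hz : ∀ ⦃i j : J⦄ (φ : i ⟶ j), D.map φ ≫ z j = z i) {c : Cone D} (hc : IsLimit c)
    (g : c.pt ⟶ Y) (hg : ∀ i, c.π.app i ≫ z i = g) :
    ∃ (D' : J ⥤ Sp S) (α : D' ⟶ D) (β : D' ⟶ (Functor.const J).obj H) (c' : Cone D') (_ : IsLimit c')
      (a : c'.pt ⟶ c.pt) (b : c'.pt ⟶ H),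
      (∀ j, IsPullback (β.app j) (α.app j) w (z j)) ∧ NatTrans.Equifibered α ∧
      IsPullback b a w g ∧ (∀ j, c'.π.app j ≫ α.app j = a ≫ c.π.app j) ∧ (∀ j, c'.π.app j ≫ β.app j = b) := by
  obtain ⟨D', α, β, sq, hα⟩ := K641.Pb.exists_diag' (D := D) z hz w
    (fun j => ⟨pullback w (z j), pullback.fst _ _, pullback.snd _ _, IsPullback.of_hasPullback _ _⟩)
  have hw : ∀ j, pullback.fst w g ≫ w = (pullback.snd w g ≫ c.π.app j) ≫ z j := by
    intro j
    rw [Category.assoc, hg, pullback.condition]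
  let c' : Cone D' :=
    { pt := pullback w g
      π :=
        { app := fun j => (sq j).lift (pullback.fst w g) (pullback.snd w g ≫ c.π.app j) (hw j)
          naturality := fun {j k} f => by
            apply (sq k).hom_ext
            · have h1 : D'.map f ≫ β.app k = β.app j := by
                rw [β.naturality f]; exact Category.comp_id _
              change (𝟙 _ ≫ (sq k).lift _ _ _) ≫ _ = ((sq j).lift _ _ _ ≫ D'.map f) ≫ _
              rw [Category.id_comp, (sq k).lift_fst, Category.assoc, h1, (sq j).lift_fst]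
            · change (𝟙 _ ≫ (sq k).lift _ _ _) ≫ _ = ((sq j).lift _ _ _ ≫ D'.map f) ≫ _
              rw [Category.id_comp, (sq k).lift_snd, Category.assoc, α.naturality, ← Category.assoc,
                (sq j).lift_snd, Category.assoc, c.w] } }
  have hc'1 : ∀ j, c'.π.app j ≫ β.app j = pullback.fst w g := fun j => (sq j).lift_fst _ _ _
  have hc'2 : ∀ j, c'.π.app j ≫ α.app j = pullback.snd w g ≫ c.π.app j := fun j => (sq j).lift_snd _ _ _
  have hlim : IsLimit c' :=
    isLimitOfIsPullbackOfIsConnected α c' c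
      { hom := pullback.snd w g
        w := fun j => (hc'2 j).symm }
      (fun j => by
        refine IsPullback.of_right (h₁₂ := β.app j) (v₁₃ := w) (h₂₂ := z j) ?_ (hc'2 j) (sq j)
        rw [hc'1, hg]
        exact IsPullback.of_hasPullback _ _) hc
  exact ⟨D', α, β, c', hlim, pullback.snd w g, pullback.fst w g, sq, hα, IsPullback.of_hasPullback _ _, hc'2, hc'1⟩

theorem exists_isSeparatedMor [QuasiSeparatedSpace ↥S] {Y : Sp S} (hY : IsAlgSpace Y) (hYqs : IsQuasiSeparatedSp Y)
    {I : Type u} [SmallCategory I] [IsCofiltered I] {D : I ⥤ Sp S}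
    (hD : ∀ i, IsAlgSpace (D.obj i)) (hDa : ∀ (i j : I) (φ : i ⟶ j), IsAffineMor (D.map φ))
    (hqc : ∀ i, IsQuasiCompactSp (D.obj i)) (hqs : ∀ i, IsQuasiSeparatedSp (D.obj i))
    {c : Cone D} (hc : IsLimit c) (t : ∀ i, D.obj i ⟶ Y) (ht : ∀ {i j : I} (φ : i ⟶ j), D.map φ ≫ t j = t i)
    (g : c.pt ⟶ Y) (hg : ∀ i, c.π.app i ≫ t i = g) (hX : IsSeparatedMor g) :
    ∃ i₀, ∀ i, (i ⟶ i₀) → IsSeparatedMor (t i) := by
  obtain ⟨i⟩ := IsCofiltered.nonempty (C := I)
  obtain ⟨W, w, hW, hw, hcov⟩ := exists_affine_nhd_of_image hY (hqc i) (t i)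
  have : IsConnected (Over i) := IsCofiltered.isConnected _
  have hc₁ : IsLimit (c.whisker (Over.forget i)) := (Functor.Initial.isLimitWhiskerEquiv (Over.forget i) c).symm hc
  obtain ⟨D', α, β, c', hc', a, b, sq, hα, sqg, h1, h2⟩ := exists_bc_system (D := Over.forget i ⋙ D) w
    (fun j => t j.left) (fun j k φ => ht φ.left) hc₁ g (fun j => hg j.left)
  have hD'a : ∀ (j k : Over i) (φ : j ⟶ k), IsAffineMor (D'.map φ) := by
    intro j k φ
    refine K597.Affine.isAffineMor_of_repWith ?_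
    exact (repWith_isStableUnderBaseChange (S := S) @IsAffineHom).of_isPullback (hα φ).flip
      (K597.Affine.repWith_of_isAffineMor (hDa _ _ φ.left))
  have hwqc : IsQuasiCompactMor w :=
    K596.QC2.isQuasiCompactMor_of_qc_of_qs (IsAlgSpace.yon_obj _) hY w (K596.QC.isQuasiCompactSp_yon _) hYqs
  have hD' : ∀ j, IsAlgSpace (D'.obj j) := fun j =>
    isAlgSpace_of_isPullback hY.diag (IsAlgSpace.yon_obj _) (hD j.left) (sq j)
  have hqc' : ∀ j, IsQuasiCompactSp (D'.obj j) := fun j =>
    hwqc (hD j.left) (hqc j.left) _ _ _ (sq j)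
  have hqs' : ∀ j, IsQuasiSeparatedSp (D'.obj j) := fun j =>
    K596.QC2.repWith_diag_of_isPullback (isQuasiSeparatedSp_yon hW) (hqs j.left) (sq j)
  obtain ⟨j, hj⟩ := LimSep3.exists_isSeparatedMor_of_affine hW hD' hD'a hqc' hqs' hc' (fun j => β.app j)
    (fun {j k} φ => by rw [β.naturality φ]; exact Category.comp_id _) b h2
    (repWith_diagonal_of_isPullback hX sqg.flip)
  have hαj : FSurj (α.app j) := by
    refine ESurj.fSurj fun T x => ?_
    obtain ⟨T', d, y, hd, hy⟩ := hcov _ _ _ (IsPullback.of_hasPullback (t i) w) T (x ≫ D.map j.hom)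
    refine ⟨T', d, (sq j).lift (y ≫ pullback.snd _ _) ((yon S).map d ≫ x) ?_, hd, (sq j).lift_snd _ _ _⟩
    rw [Category.assoc, ← pullback.condition, ← Category.assoc, hy, Category.assoc, Category.assoc, Category.assoc]
    exact congrArg (fun z => (yon S).map d ≫ x ≫ z) (ht j.hom)
  have hsep : IsSeparatedMor (t j.left) :=
    repWith_diagonal_of_local (representable_diagonal (hD j.left).diag _) (sq j).flip hαj hj
  refine ⟨j.left, fun k φ => ?_⟩
  rw [← ht φ]
  exact repWith_diagonal_comp (isSeparatedMor_of_isAffineMor (hDa _ _ φ)) hsep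

end K604.LimSepY
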