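import Groth.Agent.AlgSp.K604.LimRed
import Groth.Agent.AlgSp.K603.Points
import Groth.Agent.AlgSp.K609.Points

/-!
# The topology on the points of a limit of algebraic spaces with affine transition maps
-/

set_option autoImplicit false
universe u

open CategoryTheory CategoryTheory.Limits AlgebraicGeometry Opposite

namespace K604.LimTop

open AlgSp K600.LimSys K600.LimAff

variable {S : Scheme.{u}} {I : Type u} [SmallCategory I] [IsCofiltered I] {D : I ⥤ Sp S}

/-- Basic neighbourhoods in the limit come from opens of the stages. -/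
theorem exists_stage_nhd (hD : ∀ i, IsAlgSpace (D.obj i)) (hDa : ∀ (i j : I) (φ : i ⟶ j), IsAffineMor (D.map φ))
    {c : Cone D} (hc : IsLimit c) (W : Set (Points c.pt)) (hW : IsOpen W) (x : Points c.pt) (hx : x ∈ W) :
    ∃ (j : I) (O : Set (Points (D.obj j))), IsOpen O ∧ Points.map (c.π.app j) x ∈ O ∧
      Points.map (c.π.app j) ⁻¹' O ⊆ W := by
  obtain ⟨i⟩ := IsCofiltered.nonempty (C := I)
  obtain ⟨U, p, hp, hps⟩ := (hD i).atlas
  obtain ⟨s, V, a, b, hs, sq⟩ := K604.LimRed.exists_sys hDa hc p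
  have has : RepWith @Surjective a := repWith_of_isPullback hps sq
  obtain ⟨v, rfl⟩ := K609.Points.surjective_ofPt_of_repWith_surjective has x
  have h1 := s.isLimitConeLeft sq hc
  have hAff : ∀ {j k : Over i} (f : j ⟶ k), IsAffineHom ((s.W ⋙ Over.forget S).map f) := hs
  have hb := isBasis_preimage_isAffineOpen (s.W ⋙ Over.forget S) _ h1
  have hW' : IsOpen (Points.ofPt a ⁻¹' W) := hW.preimage (Points.continuous_ofPt a)
  obtain ⟨_, ⟨_, ⟨j, O, hO, rfl⟩, rfl⟩, hvO, hOW⟩ := hb.exists_subset_of_mem_open (u := Points.ofPt a ⁻¹' W)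
    (a := v) hx hW'
  have hje : RepWith @Etale (s.fst j) := repWith_fst s hp j
  let O' : (s.obj j).left.Opens := O
  refine ⟨j.left, Points.ofPt (s.fst j) '' (O' : Set ↥(s.obj j).left), K609.Points.isOpenMap_ofPt hje _ O'.isOpen, ?_, ?_⟩
  · refine ⟨(s.proj sq j).left v, hvO, ?_⟩
    rw [Points.map_ofPt, ← s.proj_fst sq j]
    exact (K609.Points.ofPt_yon_map_comp _ _ _).symm
  · rintro y ⟨w, hw, hwy⟩
    obtain ⟨v', hv', hv''⟩ := K603.Points.exists_ofPt_of_isPullback (s.isPullback_proj sq j) y w hwy.symm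
    rw [← hv']
    refine hOW ?_
    change (s.proj sq j).left v' ∈ O
    rw [hv'']; exact hw

end K604.LimTop
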