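import Groth.Agent.CurvSt.K902.SliceMor
import Groth.Agent.AlgSp.K597.ProperSub
import Groth.Agent.AlgSp.K637.Core2
import Groth.Agent.AlgSp.K601.RelApprox

/-!
# Compactifications: base change, closed subspaces, change of the base scheme
-/

set_option autoImplicit false
universe u

open CategoryTheory CategoryTheory.Limits AlgebraicGeometry Opposite

namespace K604.NagComp

open AlgSp K595 K595.ChBase K902.Slice K598.RepKit

variable {S : Scheme.{u}} {X B : Sp S}

/-- `f : X ⟶ B` has a compactification. -/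
def Comp {S : Scheme.{u}} {X B : Sp S} (f : X ⟶ B) : Prop :=
  ∃ (Xc : Sp S) (j : X ⟶ Xc) (g : Xc ⟶ B), IsAlgSpace Xc ∧ RepWith @IsOpenImmersion j ∧ IsQuasiCompactMor j ∧
    IsProperMor g ∧ j ≫ g = f

/-- A proper morphism is its own compactification. -/
theorem of_proper (hX : IsAlgSpace X) {f : X ⟶ B} (hf : IsProperMor f) : Comp f :=
  ⟨X, 𝟙 X, f, hX, repWith_of_isIso _, K596.QC.isQuasiCompactMor_of_repWith (repWith_of_isIso _), hf, Category.id_comp _⟩

/-- Compactifications pull back. -/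
theorem bc {X' B' : Sp S} (hB : IsAlgSpace B) (hB' : IsAlgSpace B') {f : X ⟶ B} {b : B' ⟶ B}
    {p : X' ⟶ X} {f' : X' ⟶ B'} (sq : IsPullback p f' f b) (h : Comp f) : Comp f' := by
  obtain ⟨Xc, j, g, hXc, hj, hjq, hg, rfl⟩ := h
  have sq1 := IsPullback.of_hasPullback g b
  have hP : IsAlgSpace (pullback g b) := K613.Chart.isAlgSpace_of_isPullback hB.diag hXc hB' sq1
  let j' : X' ⟶ pullback g b := sq1.lift (p ≫ j) f' (by rw [Category.assoc]; exact sq.w)
  have h1 : j' ≫ pullback.fst g b = p ≫ j := sq1.lift_fst _ _ _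
  have h2 : j' ≫ pullback.snd g b = f' := sq1.lift_snd _ _ _
  have sq2 : IsPullback p j' j (pullback.fst g b) := by
    refine IsPullback.of_bot (v₂₁ := pullback.snd g b) (v₂₂ := g) (h₃₁ := b) ?_ h1.symm sq1
    rw [h2]
    exact sq
  exact ⟨pullback g b, j', pullback.snd g b, hP, K597.repWith_bc' _ sq2.flip hj,
    K596.QC.isQuasiCompactMor_of_isPullback sq2 hjq, K597.Proper.isProperMor_of_isPullback hXc hB hB' sq1 hg, h2⟩

theorem isPullback_mono {F G H : Sp S} (g : F ⟶ G) (j : G ⟶ H) [Mono j] : IsPullback g (𝟙 F) j (g ≫ j) := by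
  refine ⟨⟨by rw [Category.id_comp]⟩, ⟨PullbackCone.IsLimit.mk _ (fun s => s.snd) (fun s => ?_) (fun s => ?_)
    (fun s m h1 h2 => ?_)⟩⟩
  · rw [← cancel_mono j, Category.assoc]
    exact s.condition.symm
  · exact Category.comp_id _
  · rw [← h2, Category.comp_id]

/-- Compactifications of closed subspaces. -/
theorem closed {Z : Sp S} (hZ : IsAlgSpace Z) (hB : IsAlgSpace B) {f : X ⟶ B} {i : Z ⟶ X}
    (hi : RepWith @IsClosedImmersion i) (h : Comp f) : Comp (i ≫ f) := by
  obtain ⟨Xc, j, g, hXc, hj, hjq, hg, rfl⟩ := h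
  have hjq' : RepWith @QuasiCompact j := K596.QC.repWith_of_isQuasiCompactMor hj.1 hjq
  have h1 : RepWith @IsImmersion (i ≫ j) := by
    refine MorphismProperty.comp_mem _ _ _ ?_ ?_
    · exact K597.repWith_mono (fun _ _ g (_ : IsClosedImmersion g) => (inferInstance : IsImmersion g)) hi
    · exact K597.repWith_mono (fun _ _ g (_ : IsOpenImmersion g) => (inferInstance : IsImmersion g)) hj
  have h2 : RepWith @QuasiCompact (i ≫ j) := by
    refine MorphismProperty.comp_mem _ _ _ ?_ hjq'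
    exact K597.repWith_mono (fun _ _ g (_ : IsClosedImmersion g) => (inferInstance : QuasiCompact g)) hi
  obtain ⟨P, c, k, hP, hc, hk, hkc⟩ := K637.Core2.exists_closure hZ hXc (i ≫ j) h1 h2
  have hcm : Mono c := K598.RepKit.mono_of_repWith_isClosedImmersion hc
  have hkq : RepWith @QuasiCompact k :=
    MorphismProperty.of_isPullback (P := RepWith _) (isPullback_mono k c).flip (by rw [hkc]; exact h2)
  refine ⟨P, k, c ≫ g, hP, hk, K596.QC.isQuasiCompactMor_of_repWith hkq,
    K597.ProperSub.isProperMor_comp hP hXc hB (K597.ProperSub.isProperMor_of_closed hXc hc) hg, ?_⟩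
  rw [← Category.assoc, hkc, Category.assoc]

/-- Compactifications and isomorphisms of the source. -/
theorem of_iso {X' : Sp S} (e : X' ⟶ X) [IsIso e] {f : X ⟶ B} (h : Comp f) : Comp (e ≫ f) := by
  obtain ⟨Xc, j, g, hXc, hj, hjq, hg, rfl⟩ := h
  have h1 : RepWith @IsOpenImmersion (e ≫ j) := MorphismProperty.comp_mem _ _ _ (repWith_of_isIso _) hj
  have h2 : RepWith @QuasiCompact (e ≫ j) := MorphismProperty.comp_mem _ _ _ (repWith_of_isIso _)
    (K596.QC.repWith_of_isQuasiCompactMor hj.1 hjq)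
  exact ⟨Xc, e ≫ j, g, hXc, h1, K596.QC.isQuasiCompactMor_of_repWith h2, hg, Category.assoc _ _ _⟩

/-- Change of the base scheme. -/
theorem of_L {S' : Scheme.{u}} (g : S ⟶ S') (hB : IsAlgSpace B) {f : X ⟶ B} (h : Comp ((L g).map f)) : Comp f := by
  obtain ⟨Xc, j, q, hXc, hj, hjq, hq, hjq'⟩ := h
  obtain ⟨Z, e, z, hz⟩ := exists_lift_obj q
  obtain ⟨k, hk, hkz⟩ := exists_hom_of_comp (g := g) f z (j ≫ e.inv) (by
    rw [← hz, Category.assoc, e.inv_hom_id_assoc, hjq'])
  have hZ : IsAlgSpace Z := isAlgSpace_of_L (g := g) (hXc.of_iso e.symm)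
  refine ⟨Z, k, z, hZ, ?_, ?_, ?_, hkz⟩
  · rw [← repWith_L_iff (g := g), hk, repWith_cancel_right]
    exact hj
  · rw [← isQuasiCompactMor_L_iff (g := g), hk]
    refine K596.QC.isQuasiCompactMor_of_repWith ?_
    rw [repWith_cancel_right]
    exact K596.QC.repWith_of_isQuasiCompactMor hj.1 hjq
  · rw [← isProperMor_L_iff (g := g), ← hz]
    have sq : IsPullback e.hom (e.hom ≫ q) q (𝟙 _) := IsPullback.of_horiz_isIso ⟨by simp⟩
    exact K597.Proper.isProperMor_of_isPullback hXc (isAlgSpace_L hB) (isAlgSpace_L hB) sq hq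

end K604.NagComp
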