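import Groth.Agent.AlgSp.K604.NagComp
import Groth.Agent.AlgSp.K604.LimSepY
import Groth.Agent.AlgSp.K597.ProperCancel

/-!
# Nagata compactification: reduction to a Noetherian base
-/

set_option autoImplicit false
universe u

open CategoryTheory CategoryTheory.Limits AlgebraicGeometry Opposite

namespace K604.NagRed

open AlgSp K595 K595.ChBase K902.Slice K598.RepKit K604.NagComp K604.LimSep2 K604.LimSepY K601.RelApprox

variable {S : Scheme.{u}}

/-- A separated morphism of finite presentation over a limit descends to a stage. -/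
theorem exists_stage [QuasiSeparatedSpace S] {I : Type u} [SmallCategory I] [IsCofiltered I]
    {D : I ⥤ Sp S} (hD : ∀ i, IsAlgSpace (D.obj i)) (hDa : ∀ (i j : I) (φ : i ⟶ j), IsAffineMor (D.map φ))
    (hqc : ∀ i, IsQuasiCompactSp (D.obj i)) (hqs : ∀ i, IsQuasiSeparatedSp (D.obj i))
    {c : Cone D} (hc : IsLimit c) {X : Sp S} (hX : IsAlgSpace X) (f : X ⟶ c.pt) (hf : IsFinitePresentationMor f)
    (hfs : IsSeparatedMor f) :
    ∃ (i : I) (X₀ : Sp S) (x₀ : X₀ ⟶ D.obj i) (g : X ⟶ X₀), IsAlgSpace X₀ ∧ IsFinitePresentationMor x₀ ∧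
      IsSeparatedMor x₀ ∧ IsPullback g f x₀ (c.π.app i) := by
  obtain ⟨i, X₀, x₀, g, hX₀, hx₀, sq₀⟩ := K601.FpDesc.main hD hDa hqc hqs hc hX f hf
  have : IsConnected (Over i) := IsCofiltered.isConnected _
  have hc₁ : IsLimit (c.whisker (Over.forget i)) := (Functor.Initial.isLimitWhiskerEquiv (Over.forget i) c).symm hc
  obtain ⟨D', α, β, c', hc', a, b, sq, hα, sqg, h1, h2⟩ := exists_bc_system (D := Over.forget i ⋙ D) x₀
    (fun j => D.map j.hom) (fun j k φ => by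
      change D.map φ.left ≫ D.map k.hom = D.map j.hom
      rw [← D.map_comp, Over.w]) hc₁ (c.π.app i) (fun j => by
      change c.π.app j.left ≫ D.map j.hom = c.π.app i
      exact c.w j.hom)
  have hD'a : ∀ (j k : Over i) (φ : j ⟶ k), IsAffineMor (D'.map φ) := by
    intro j k φ
    refine K597.Affine.isAffineMor_of_repWith ?_
    exact (repWith_isStableUnderBaseChange (S := S) @IsAffineHom).of_isPullback (hα φ).flip
      (K597.Affine.repWith_of_isAffineMor (hDa _ _ φ.left))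
  have hαf : ∀ j, IsFinitePresentationMor (α.app j) := fun j =>
    isFinitePresentationMor_bc hX₀ (hD i) (hD j.left) (sq j) hx₀
  have hD' : ∀ j, IsAlgSpace (D'.obj j) := fun j =>
    K613.Chart.isAlgSpace_of_isPullback (hD i).diag hX₀ (hD j.left) (sq j)
  have hqc' : ∀ j, IsQuasiCompactSp (D'.obj j) := by
    intro j
    have sqj : IsPullback (𝟙 (D'.obj j)) (α.app j) (α.app j) (𝟙 ((Over.forget i ⋙ D).obj j)) :=
      IsPullback.of_horiz_isIso ⟨by simp⟩
    exact (hαf j).2.1 (hD j.left) (hqc j.left) _ _ _ sqj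
  have hqs' : ∀ j, IsQuasiSeparatedSp (D'.obj j) := fun j =>
    K605.ImmMain.isQuasiSeparatedSp_of_mor (hαf j).2.2 (hqs j.left)
  let e : X ≅ c'.pt := sq₀.isoIsPullback _ _ sqg
  have he1 : e.hom ≫ b = g := sq₀.isoIsPullback_hom_fst _ _ sqg
  have he2 : e.hom ≫ a = f := sq₀.isoIsPullback_hom_snd _ _ sqg
  have ha : IsSeparatedMor a := by
    have sqa : IsPullback e.inv a f (𝟙 _) :=
      IsPullback.of_horiz_isIso ⟨by rw [← he2, e.inv_hom_id_assoc, Category.comp_id]⟩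
    exact K595.DiagRel.isSeparatedMor_isStableUnderBaseChange.of_isPullback sqa hfs
  have hsep : IsSeparatedMor (b ≫ x₀) := by
    rw [sqg.w]
    exact (K595.DiagRel.isSeparatedMor_isMultiplicative).comp_mem _ _ ha
      (K601.RelApprox.isSeparatedMor_of_isAffineMor (K600.LimAff.isAffineMor_π hDa hc i))
  obtain ⟨j, hj⟩ := exists_isSeparatedMor (hD i) (hqs i) hD' hD'a hqc' hqs' hc' (fun j => β.app j ≫ x₀)
    (fun {j k} φ => by
      have h3 : D'.map φ ≫ β.app k = β.app j := by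
        rw [β.naturality φ]; exact Category.comp_id _
      rw [← Category.assoc, h3]) (b ≫ x₀) (fun j => by rw [← Category.assoc, h2]) hsep
  have hj' : IsSeparatedMor (α.app j) := by
    refine K597.ProperCancel.isSeparatedMor_of_comp (g := D.map j.hom) ?_
    rw [← (sq j).w]
    exact hj j (𝟙 j)
  refine ⟨j.left, D'.obj j, α.app j, e.hom ≫ c'.π.app j, hD' j, hαf j, hj', ?_⟩
  refine IsPullback.of_right (h₁₂ := β.app j) (v₁₃ := x₀) (h₂₂ := D.map j.hom) ?_ ?_ (sq j)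
  · rw [Category.assoc, h2, he1, c.w]
    exact sq₀
  · exact (Category.assoc _ _ _).trans ((congrArg (fun t => e.hom ≫ t) (h1 j)).trans
      ((Category.assoc _ _ _).symm.trans (congrArg (fun t => t ≫ c.π.app j.left) he2)))

/-- Nagata compactification over Noetherian spaces over `T`. -/
def NagNoe (T : Scheme.{u}) : Prop :=
  ∀ {X B : Sp T} (f : X ⟶ B), IsAlgSpace X → IsAlgSpace B → IsQuasiCompactSp B → IsQuasiSeparatedSp B →
    IsLocNoethSp B → IsSeparatedMor f → IsFiniteTypeMor f → Comp f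

/-- The statement of S10038 over `S`. -/
def ClosedInSep (S : Scheme.{u}) : Prop :=
  ∀ {X Y : AlgSp.Space S} (f : X ⟶ Y), AlgSp.IsFiniteTypeMor f.hom → AlgSp.IsSeparatedMor f.hom →
    AlgSp.IsQuasiCompactSp Y.obj → AlgSp.IsQuasiSeparatedSp Y.obj →
    ∃ (X' : AlgSp.Space S) (i : X ⟶ X') (f' : X' ⟶ Y), i ≫ f' = f ∧
      AlgSp.RepWith @IsClosedImmersion i.hom ∧ AlgSp.IsFinitePresentationMor f'.hom ∧ AlgSp.IsSeparatedMor f'.hom

theorem isLocNoethSp_of_terminal (hS : IsTerminal S) {F : Sp S} (hF : IsAlgSpace F)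
    (hq : ∀ q : F ⟶ (yon S).obj (Over.mk (𝟙 S)), IsFiniteTypeMor q) : IsLocNoethSp F := by
  obtain ⟨U, p, hp, hps⟩ := hF.atlas
  refine ⟨U, p, hp, hps, ?_⟩
  have hT := K596.QC2.isTerminalYon S
  have : IsLocallyNoetherian (Over.mk (𝟙 S)).left := K633.AbsMor.isLocallyNoetherian_of_isTerminal hS
  obtain ⟨h, hh⟩ := (yon S).map_surjective (p ≫ hT.from F)
  have h1 : LocallyOfFiniteType h.left := (hq (hT.from F)).1 p (𝟙 _) h hp (repWith_of_isIso _) (by
    rw [hh, Category.comp_id])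
  exact LocallyOfFiniteType.isLocallyNoetherian (h.left : U.left ⟶ (Over.mk (𝟙 S)).left)

/-- Nagata over the terminal scheme from the Noetherian case. -/
theorem main_terminal (hS : IsTerminal S) (H : NagNoe S) (H38 : ClosedInSep S) (H40 : MorLim S)
    {X B : Space S} (f : X ⟶ B) (hBqc : IsQuasiCompactSp B.obj) (hBqs : IsQuasiSeparatedSp B.obj)
    (hsep : IsSeparatedMor f.hom) (hft : IsFiniteTypeMor f.hom) : Comp f.hom := by
  have := K633.AbsMor.isAffine_of_isTerminal hS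
  have : QuasiSeparatedSpace S := inferInstance
  obtain ⟨X', i, f', hif, hi, hfp', hsep'⟩ := H38 f hft hsep hBqc hBqs
  have hif' : i.hom ≫ f'.hom = f.hom := congrArg (fun t => t.hom) hif
  rw [← hif']
  refine NagComp.closed X.property B.property hi ?_
  obtain ⟨I, _, _, _, DX, D, φ, cX, c, hcX, hc, eX, e, hA, hAf, hfin, hcomm⟩ := H40 (𝟙 B) hBqc hBqs hBqc hBqs
  have hfil : IsFiltered I := inferInstance
  let f₁ : X'.obj ⟶ c.pt := f'.hom ≫ e.inv
  have sq₁ : IsPullback (𝟙 X'.obj) f₁ f'.hom e.hom := IsPullback.of_horiz_isIso ⟨by simp [f₁]⟩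
  have hcpt : IsAlgSpace c.pt := B.property.of_iso e.symm
  have hf₁ : IsFinitePresentationMor f₁ := isFinitePresentationMor_bc X'.property B.property hcpt sq₁ hfp'
  have hf₁s : IsSeparatedMor f₁ := K595.DiagRel.isSeparatedMor_isStableUnderBaseChange.of_isPullback sq₁ hsep'
  obtain ⟨j, X₀, x₀, g, hX₀, hx₀, hx₀s, sq⟩ := exists_stage (fun i => (hA i).2) (fun i j φ => (hAf i j φ).2)
    (fun i => K633.AbsMor.isQuasiCompactSp_of_isFiniteTypeMor hS ((hfin i).2.2.2 ((K596.QC2.isTerminalYon S).from _)))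
    (fun i => (hfin i).2.1) hc X'.property f₁ hf₁ hf₁s
  have h0 : Comp x₀ := H x₀ hX₀ (hA j).2
    (K633.AbsMor.isQuasiCompactSp_of_isFiniteTypeMor hS ((hfin j).2.2.2 ((K596.QC2.isTerminalYon S).from _)))
    (hfin j).2.1 (isLocNoethSp_of_terminal hS (hA j).2 (hfin j).2.2.2) hx₀s ⟨K601.StageRel.LRel.lft_of_lfp hx₀.1, hx₀.2.1⟩
  have h1 : Comp f₁ := NagComp.bc (hA j).2 hcpt sq h0
  have sq₂ : IsPullback (𝟙 X'.obj) f'.hom f₁ e.inv := IsPullback.of_horiz_isIso ⟨by simp [f₁]⟩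
  exact NagComp.bc hcpt B.property sq₂ h1

/-- **Nagata compactification from the Noetherian case** (over the terminal scheme). -/
theorem main (H : NagNoe (⊤_ Scheme.{u})) (H38 : ClosedInSep (⊤_ Scheme.{u})) (H40 : MorLim (⊤_ Scheme.{u}))
    {S : Scheme.{u}} [QuasiSeparatedSpace S] {X B : AlgSp.Space S} (f : X ⟶ B)
    (hBqc : AlgSp.IsQuasiCompactSp B.obj) (hBqs : AlgSp.IsQuasiSeparatedSp B.obj)
    (hsep : AlgSp.IsSeparatedMor f.hom) (hft : AlgSp.IsFiniteTypeMor f.hom) :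
    ∃ (Xc : AlgSp.Space S) (j : X ⟶ Xc) (g : Xc ⟶ B), AlgSp.RepWith @IsOpenImmersion j.hom ∧
      AlgSp.IsQuasiCompactMor j.hom ∧ AlgSp.IsProperMor g.hom ∧ j ≫ g = f := by
  let S₁ : Scheme.{u} := ⊤_ Scheme.{u}
  have hS₁ : IsTerminal S₁ := terminalIsTerminal
  let g : S ⟶ S₁ := hS₁.from S
  let X₁ : Space S₁ := ⟨(L g).obj X.obj, isAlgSpace_L X.property⟩
  let B₁ : Space S₁ := ⟨(L g).obj B.obj, isAlgSpace_L B.property⟩
  let f₁ : X₁ ⟶ B₁ := ⟨(L g).map f.hom⟩
  have h1 : Comp f₁.hom := main_terminal hS₁ H H38 H40 f₁ ((isQuasiCompactSp_L_iff (g := g) _).2 hBqc)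
    (isQuasiSeparatedSp_L g hBqs) ((isSeparatedMor_L_iff (g := g) _).2 hsep) ((isFiniteTypeMor_L_iff (g := g) _).2 hft)
  obtain ⟨Xc, j, q, hXc, hj, hjq, hq, e⟩ := NagComp.of_L g B.property h1
  exact ⟨⟨Xc, hXc⟩, ⟨j⟩, ⟨q⟩, hj, hjq, hq, ObjectProperty.hom_ext _ e⟩

end K604.NagRed
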