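import Groth.Agent.AlgSp.K604.DvrClosed
import Groth.Agent.AlgSp.K604.SepDvr
import Groth.Agent.AlgSp.K597.EtLoc
import Groth.Agent.AlgSp.K603.UnivClosedAux
import Groth.Agent.S10053
import Groth.Agent.AlgSp.K596.QC

/-!
# Universal closedness from lifts over discrete valuation rings
-/

set_option autoImplicit false
universe u

open CategoryTheory CategoryTheory.Limits AlgebraicGeometry Opposite

namespace K604.ProperDvr

open AlgSp K604.DvrClosed

variable {S : Scheme.{u}} {F G H P Q X Y Z : Sp S}

theorem isClosedMap_of_locNoeth {Z : Over S} [IsLocallyNoetherian Z.left] {P : Sp S} (hP : IsAlgSpace P)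
    (g : P ⟶ (yon S).obj Z) (hqc : IsQuasiCompactMor g) (hg : LocP @LocallyOfFiniteType g) (H : DvrExist g) :
    IsClosedMap (Points.map g) := by
  refine K603.UnivClosedAux.isClosedMap_of_charts g fun z => ?_
  obtain ⟨t, rfl⟩ := (Points.schemeEquiv Z).surjective z
  obtain ⟨R, ι, hι, t', rfl⟩ := Groth.Agent.S10053.exists_affine_nhd Z.left t
  let T : Over S := Over.mk (ι ≫ Z.hom)
  let a : T ⟶ Z := Over.homMk ι rfl
  refine ⟨T, (yon S).map a, t', (repWith_yon_map_iff _ _).2 ?_, ?_, ?_⟩
  · change Etale ι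
    infer_instance
  · exact K609.Points.ofPt_yon_map a t'
  · intro P' fst snd sq
    haveI : IsAffine T.left := inferInstanceAs (IsAffine (Spec R))
    haveI : IsLocallyNoetherian T.left := isLocallyNoetherian_of_isOpenImmersion ι
    refine isClosedMap_of_affine_target ?_ snd ?_ (dvrExist_of_isPullback H sq)
    · exact hqc (IsAlgSpace.yon_obj _) (K596.QC.isQuasiCompactSp_yon _) _ _ _ sq
    · exact K597.locP_bc K597.etLoc_lft sq hP.hasAtlas (IsAlgSpace.yon_obj _).hasAtlas (IsAlgSpace.yon_obj _).hasAtlas hg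

/-- A morphism of finite type to a locally Noetherian algebraic space with the existence property for discrete valuation
rings is universally closed. -/
theorem isUnivClosedMor_of_dvrExist {X Y : Space S} (f : X ⟶ Y) (hft : IsFiniteTypeMor f.hom)
    (hY : IsLocNoethSp Y.obj) (H : DvrExist f.hom) : IsUnivClosedMor f.hom := by
  obtain ⟨V, q, hq1, hq2, hV⟩ := hY
  refine (Groth.Agent.S10053.result S f hft.2).2.2 ⟨V, q, hq1, hq2, fun n P fst snd sq => ?_⟩
  haveI : IsLocallyNoetherian (Over.mk ((𝔸(ULift.{u} (Fin n); V.left) ↘ V.left) ≫ V.hom)).left :=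
    LocallyOfFiniteType.isLocallyNoetherian (𝔸(ULift.{u} (Fin n); V.left) ↘ V.left)
  have hP : IsAlgSpace P := K613.Chart.isAlgSpace_of_isPullback Y.property.diag X.property (IsAlgSpace.yon_obj _) sq
  refine isClosedMap_of_locNoeth hP snd (K596.QC.isQuasiCompactMor_of_isPullback sq hft.2) ?_
    (dvrExist_of_isPullback H sq)
  exact K597.locP_bc K597.etLoc_lft sq X.property.hasAtlas Y.property.hasAtlas (IsAlgSpace.yon_obj _).hasAtlas hft.1

end K604.ProperDvr
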