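import Groth.Agent.AlgSp.K601.RelLimRep
import Groth.Agent.AlgSp.K598.Charts
import Groth.Agent.AlgSp.K600.LimSys

/-!
# Spreading out Zariski local factorizations through an etale chart

`D : I ⥤ Over S` a cofiltered system of compact schemes with affine transition maps over a sheaf `X`, with limit `c.pt`;
if `c.pt ⟶ X` factors Zariski locally through the etale `p : h_E ⟶ X`, so does some `D i ⟶ X`.
-/

set_option autoImplicit false
universe u

open CategoryTheory CategoryTheory.Limits AlgebraicGeometry Opposite TopologicalSpace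

namespace K604.Spread

open AlgSp K598.RepKit

variable {S : Scheme.{u}} {I : Type u} [SmallCategory I] [IsCofiltered I] {D : I ⥤ Over S} {c : Cone D}

/-- The open subscheme `U` of a scheme `T` over `S`, over `S`. -/
abbrev opn (T : Over S) (U : T.left.Opens) : Over S := Over.mk (U.ι ≫ T.hom)

/-- Its inclusion. -/
abbrev opnι (T : Over S) (U : T.left.Opens) : opn T U ⟶ T := Over.homMk U.ι rfl

/-- Restriction of a morphism to opens. -/
noncomputable def opnMap {T T' : Over S} (f : T ⟶ T') (U : T.left.Opens) (U' : T'.left.Opens) (h : U ≤ f.left ⁻¹ᵁ U') :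
    opn T U ⟶ opn T' U' :=
  Over.homMk (f.left.resLE U' U h) (by
    change f.left.resLE U' U h ≫ U'.ι ≫ T'.hom = U.ι ≫ T.hom
    rw [← Category.assoc, Scheme.Hom.resLE_comp_ι, Category.assoc, Over.w])

theorem opnMap_ι {T T' : Over S} (f : T ⟶ T') (U : T.left.Opens) (U' : T'.left.Opens) (h : U ≤ f.left ⁻¹ᵁ U') :
    opnMap f U U' h ≫ opnι T' U' = opnι T U ≫ f :=
  Over.OverMorphism.ext (Scheme.Hom.resLE_comp_ι _ _)

/-- The system of the preimages of an open subset of a stage. -/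
noncomputable def opD (D : I ⥤ Over S) (i : I) (U : (D.obj i).left.Opens) : Over i ⥤ Over S where
  obj j := opn (D.obj j.left) ((D.map j.hom).left ⁻¹ᵁ U)
  map {j k} f := opnMap (D.map f.left) _ _ (by
    rw [← Scheme.Hom.comp_preimage, ← Over.comp_left, ← D.map_comp, Over.w])
  map_id j := by
    have : Mono (opnι (D.obj j.left) ((D.map j.hom).left ⁻¹ᵁ U)) :=
      (Over.forget S).mono_of_mono_map (inferInstanceAs (Mono (Scheme.Opens.ι _)))
    rw [← cancel_mono (opnι (D.obj j.left) ((D.map j.hom).left ⁻¹ᵁ U)), opnMap_ι, Category.id_comp]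
    change _ ≫ D.map (𝟙 j.left) = _
    rw [D.map_id, Category.comp_id]
  map_comp {j k l} f g := by
    have : Mono (opnι (D.obj l.left) ((D.map l.hom).left ⁻¹ᵁ U)) :=
      (Over.forget S).mono_of_mono_map (inferInstanceAs (Mono (Scheme.Opens.ι _)))
    rw [← cancel_mono (opnι (D.obj l.left) ((D.map l.hom).left ⁻¹ᵁ U)), opnMap_ι, Category.assoc, opnMap_ι,
      ← Category.assoc, opnMap_ι, Category.assoc, ← D.map_comp]
    rfl

/-- Its cone. -/
noncomputable def opC (c : Cone D) (i : I) (U : (D.obj i).left.Opens) : Cone (opD D i U) where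
  pt := opn c.pt ((c.π.app i).left ⁻¹ᵁ U)
  π :=
    { app := fun j => opnMap (c.π.app j.left) _ _ (by
        rw [← Scheme.Hom.comp_preimage, ← Over.comp_left, c.w])
      naturality := fun j k f => by
        have : Mono (opnι (D.obj k.left) ((D.map k.hom).left ⁻¹ᵁ U)) :=
          (Over.forget S).mono_of_mono_map (inferInstanceAs (Mono (Scheme.Opens.ι _)))
        refine (cancel_mono (opnι (D.obj k.left) ((D.map k.hom).left ⁻¹ᵁ U))).1 ?_
        have h1 : c.π.app j.left ≫ D.map f.left = c.π.app k.left := c.w _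
        have e1 := opnMap_ι (c.π.app k.left) ((c.π.app i).left ⁻¹ᵁ U) ((D.map k.hom).left ⁻¹ᵁ U) (by
          rw [← Scheme.Hom.comp_preimage, ← Over.comp_left, c.w])
        have e2 := opnMap_ι (c.π.app j.left) ((c.π.app i).left ⁻¹ᵁ U) ((D.map j.hom).left ⁻¹ᵁ U) (by
          rw [← Scheme.Hom.comp_preimage, ← Over.comp_left, c.w])
        have e3 := opnMap_ι (D.map f.left) ((D.map j.hom).left ⁻¹ᵁ U) ((D.map k.hom).left ⁻¹ᵁ U) (by
          rw [← Scheme.Hom.comp_preimage, ← Over.comp_left, ← D.map_comp, Over.w])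
        refine (Category.assoc _ _ _).trans ((Category.id_comp _).trans (e1.trans ?_))
        refine Eq.trans ?_ (Category.assoc _ _ _).symm
        refine Eq.trans ?_ (congrArg (_ ≫ ·) e3.symm)
        refine Eq.trans ?_ (Category.assoc _ _ _)
        refine Eq.trans ?_ (congrArg (· ≫ _) e2.symm)
        rw [Category.assoc, h1] }

theorem isLimit_opC (hc : IsLimit ((Over.forget S).mapCone c)) (i : I) (U : (D.obj i).left.Opens) :
    Nonempty (IsLimit ((Over.forget S).mapCone (opC c i U))) :=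
  ⟨isLimitOpensCone (D ⋙ Over.forget S) ((Over.forget S).mapCone c) hc i U⟩


section main

variable {X : Sp S} {E : Over S} {p : (yon S).obj E ⟶ X} (hp : RepWith @Etale p)
  (hc : IsLimit ((Over.forget S).mapCone c)) (haff : ∀ {i j : I} (f : i ⟶ j), IsAffineHom (D.map f).left)
  (t : ∀ i, (yon S).obj (D.obj i) ⟶ X) (ht : ∀ {i j : I} (f : i ⟶ j), (yon S).map (D.map f) ≫ t j = t i)

include hp hc haff ht

theorem exists_nhd (g : (yon S).obj c.pt ⟶ X) (hg : ∀ i, (yon S).map (c.π.app i) ≫ t i = g) (y : ↥c.pt.left)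
    (W : c.pt.left.Opens) (hy : y ∈ W) (k : opn c.pt W ⟶ E)
    (hk : (yon S).map k ≫ p = (yon S).map (opnι c.pt W) ≫ g) :
    ∃ (i : I) (A : (D.obj i).left.Opens) (κ : opn (D.obj i) A ⟶ E), (c.π.app i).left y ∈ A ∧
      (yon S).map κ ≫ p = (yon S).map (opnι (D.obj i) A) ≫ t i := by
  have ha' : ∀ {i j : I} (f : i ⟶ j), IsAffineHom ((D ⋙ Over.forget S).map f) := fun f => haff f
  obtain ⟨_, ⟨i₁, A₁, hA₁, rfl⟩, hyA, hAW⟩ := TopologicalSpace.Opens.isBasis_iff_nbhd.mp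
    (isBasis_preimage_isAffineOpen (D ⋙ Over.forget S) ((Over.forget S).mapCone c) hc) (U := W) (x := y) hy
  change (D.obj i₁).left.Opens at A₁
  have hAW' : (c.π.app i₁).left ⁻¹ᵁ A₁ ≤ W := hAW
  have hyA' : y ∈ (c.π.app i₁).left ⁻¹ᵁ A₁ := hyA
  have sq := hp.1.isPullback ((yon S).map (opnι (D.obj i₁) A₁) ≫ t i₁)
  have het : Etale (hp.1.snd ((yon S).map (opnι (D.obj i₁) A₁) ≫ t i₁)).left := hp.2 _ _ _ sq
  -- the section over the limit
  let b₁ : opn c.pt ((c.π.app i₁).left ⁻¹ᵁ A₁) ⟶ opn c.pt W := opnMap (𝟙 _) _ _ hAW'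
  have hb₁ : b₁ ≫ opnι c.pt W = opnι c.pt _ := (opnMap_ι _ _ _ _).trans (Category.comp_id _)
  let b₂ : opn c.pt ((c.π.app i₁).left ⁻¹ᵁ A₁) ⟶ opn (D.obj i₁) A₁ := opnMap (c.π.app i₁) _ _ le_rfl
  have hb₂ : b₂ ≫ opnι (D.obj i₁) A₁ = opnι c.pt _ ≫ c.π.app i₁ := opnMap_ι _ _ _ _
  have hcomm : (yon S).map (b₁ ≫ k) ≫ p = (yon S).map b₂ ≫ (yon S).map (opnι (D.obj i₁) A₁) ≫ t i₁ := by
    rw [Functor.map_comp, Category.assoc, hk, ← Category.assoc, ← Functor.map_comp, hb₁, ← Category.assoc,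
      ← Functor.map_comp, hb₂, Functor.map_comp, Category.assoc, hg]
  obtain ⟨s₀, hs₀⟩ := (yon S).map_surjective (sq.lift _ _ hcomm)
  have hs1 : (yon S).map s₀ ≫ hp.1.fst _ = (yon S).map (b₁ ≫ k) := by rw [hs₀, sq.lift_fst]
  have hs2 : s₀ ≫ hp.1.snd _ = b₂ := (yon S).map_injective (by rw [Functor.map_comp, hs₀, sq.lift_snd])
  have hlim := (isLimit_opC hc i₁ A₁).some
  have haff'' : ∀ {i j : I} (f : i ⟶ j) (A : (D.obj j).left.Opens), IsAffineOpen A →
      IsAffineOpen ((D.map f).left ⁻¹ᵁ A) := fun f A hA => by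
    have := haff f
    exact hA.preimage _
  have haff' : ∀ j : Over i₁, IsAffine ((opD D i₁ A₁).obj j).left := fun j => haff'' j.hom A₁ hA₁
  let r : (opD D i₁ A₁).obj (Over.mk (𝟙 i₁)) ⟶ opn (D.obj i₁) A₁ := opnMap (D.map (𝟙 i₁)) _ _ le_rfl
  have hr : r ≫ opnι (D.obj i₁) A₁ = opnι (D.obj i₁) _ ≫ D.map (𝟙 i₁) := opnMap_ι _ _ _ _
  have hmono : Mono (opnι (D.obj i₁) A₁) := (Over.forget S).mono_of_mono_map (inferInstanceAs (Mono (Scheme.Opens.ι _)))
  have e1 : (opC c i₁ A₁).π.app (Over.mk (𝟙 i₁)) ≫ r = b₂ := by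
    refine (cancel_mono (opnι (D.obj i₁) A₁)).1 ?_
    have e2 : (opC c i₁ A₁).π.app (Over.mk (𝟙 i₁)) ≫ opnι (D.obj i₁) ((D.map (𝟙 i₁)).left ⁻¹ᵁ A₁) =
      opnι c.pt _ ≫ c.π.app i₁ := opnMap_ι _ _ _ _
    refine (Category.assoc _ _ _).trans ((congrArg (_ ≫ ·) hr).trans ((Category.assoc _ _ _).symm.trans
      ((congrArg (· ≫ D.map (𝟙 i₁)) e2).trans (Eq.trans ?_ hb₂.symm))))
    rw [D.map_id, Category.comp_id]
  obtain ⟨j, φ, gj, h1, h2⟩ := K601.RelLimRep.exists_factor (c := opC c i₁ A₁) hlim haff'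
    (hp.1.snd ((yon S).map (opnι (D.obj i₁) A₁) ≫ t i₁)) (inferInstance) (i := Over.mk (𝟙 i₁)) r s₀
      (hs2.trans e1.symm)
  have e3 : (opD D i₁ A₁).map φ ≫ r ≫ opnι (D.obj i₁) A₁ = opnι (D.obj j.left) _ ≫ D.map j.hom := by
    have e4 : (opD D i₁ A₁).map φ ≫ opnι (D.obj i₁) ((D.map (𝟙 i₁)).left ⁻¹ᵁ A₁) = opnι (D.obj j.left) _ ≫ D.map φ.left :=
      opnMap_ι _ _ _ _
    refine (congrArg (_ ≫ ·) hr).trans ((Category.assoc _ _ _).symm.trans
      ((congrArg (· ≫ D.map (𝟙 i₁)) e4).trans ?_))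
    rw [D.map_id, Category.comp_id]
    have : φ.left = j.hom := by
      have := Over.w φ
      exact (Category.comp_id _).symm.trans this
    rw [this]
  refine ⟨j.left, (D.map j.hom).left ⁻¹ᵁ A₁, gj ≫ (yon S).preimage (hp.1.fst ((yon S).map (opnι (D.obj i₁) A₁) ≫ t i₁)),
    ?_, ?_⟩
  · change (D.map j.hom).left ((c.π.app j.left).left y) ∈ A₁
    rw [← Scheme.Hom.comp_apply, ← Over.comp_left, c.w]
    exact hyA'
  · have e5 : gj ≫ hp.1.snd ((yon S).map (opnι (D.obj i₁) A₁) ≫ t i₁) ≫ opnι (D.obj i₁) A₁ =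
        opnι (D.obj j.left) _ ≫ D.map j.hom :=
      (Category.assoc _ _ _).symm.trans ((congrArg (· ≫ opnι (D.obj i₁) A₁) h2).trans
        ((Category.assoc _ _ _).trans e3))
    have e6 := congrArg (fun m => (yon S).map m ≫ t i₁) e5
    simp only [Functor.map_comp, Category.assoc] at e6
    rw [Functor.map_comp, (yon S).map_preimage, Category.assoc, sq.w]
    refine e6.trans ?_
    have e7 : (yon S).map (opnι (D.obj j.left) ((D.map j.hom).left ⁻¹ᵁ A₁) ≫ D.map j.hom) ≫ t i₁ =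
        (yon S).map (opnι (D.obj j.left) ((D.map j.hom).left ⁻¹ᵁ A₁)) ≫ (yon S).map (D.map j.hom) ≫ t i₁ := by
      rw [Functor.map_comp, Category.assoc]
    refine e7.trans ?_
    exact congrArg (fun z => (yon S).map (opnι (D.obj j.left) ((D.map j.hom).left ⁻¹ᵁ A₁)) ≫ z) (ht j.hom)

/-- A Zariski local factorization of the limit through an etale chart comes from a finite stage. -/
theorem exists_stage (hcpt : ∀ i, CompactSpace (D.obj i).left) (g : (yon S).obj c.pt ⟶ X)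
    (hg : ∀ i, (yon S).map (c.π.app i) ≫ t i = g)
    (hloc : ∀ y : ↥c.pt.left, ∃ W : c.pt.left.Opens, y ∈ W ∧ ∃ k : opn c.pt W ⟶ E,
      (yon S).map k ≫ p = (yon S).map (opnι c.pt W) ≫ g) (i₀ : I) :
    ∃ (i : I) (_ : i ⟶ i₀), ∀ (j : I) (_ : j ⟶ i) (x : ↥(D.obj j).left), ∃ A : (D.obj j).left.Opens, x ∈ A ∧
      ∃ κ : opn (D.obj j) A ⟶ E, (yon S).map κ ≫ p = (yon S).map (opnι (D.obj j) A) ≫ t j := by
  classical
  have ha' : ∀ {i j : I} (f : i ⟶ j), IsAffineHom ((D ⋙ Over.forget S).map f) := fun f => haff f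
  have hcpt' : ∀ i, CompactSpace ((D ⋙ Over.forget S).obj i) := hcpt
  have hcc : CompactSpace c.pt.left := Scheme.compactSpace_of_isLimit (D ⋙ Over.forget S) ((Over.forget S).mapCone c) hc
  have key : ∀ y : ↥c.pt.left, ∃ (i : I) (A : (D.obj i).left.Opens) (κ : opn (D.obj i) A ⟶ E),
      (c.π.app i).left y ∈ A ∧ (yon S).map κ ≫ p = (yon S).map (opnι (D.obj i) A) ≫ t i := fun y => by
    obtain ⟨W, hy, k, hk⟩ := hloc y
    exact exists_nhd hp hc haff t ht g hg y W hy k hk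
  choose i A κ hmem hκ using key
  obtain ⟨s, hs⟩ := isCompact_univ.elim_finite_subcover
    (fun y : ↥c.pt.left => (((c.π.app (i y)).left ⁻¹ᵁ (A y) : c.pt.left.Opens) : Set c.pt.left))
    (fun y => ((c.π.app (i y)).left ⁻¹ᵁ (A y)).isOpen) (fun y _ => Set.mem_iUnion.2 ⟨y, hmem y⟩)
  obtain ⟨i₁, hi₁⟩ := IsCofiltered.inf_objs_exists (insert i₀ (s.image i))
  have f₀ : i₁ ⟶ i₀ := (hi₁ (Finset.mem_insert_self _ _)).some
  have f : ∀ y, y ∈ s → (i₁ ⟶ i y) := fun y hy =>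
    (hi₁ (Finset.mem_insert_of_mem (Finset.mem_image_of_mem i hy))).some
  let U : (D.obj i₁).left.Opens := ⨆ y : s, (D.map (f y.1 y.2)).left ⁻¹ᵁ (A y.1)
  have hU : ((Over.forget S).mapCone c).π.app i₁ ⁻¹ᵁ U = ⊤ := by
    rw [eq_top_iff]
    intro z _
    obtain ⟨y, hy, hz⟩ : ∃ y ∈ s, z ∈ (c.π.app (i y)).left ⁻¹ᵁ (A y) := by
      have := hs (Set.mem_univ z)
      simp only [Set.mem_iUnion] at this
      obtain ⟨y, hy, hz⟩ := this
      exact ⟨y, hy, hz⟩
    change (c.π.app i₁).left z ∈ U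
    refine TopologicalSpace.Opens.mem_iSup.2 ⟨⟨y, hy⟩, ?_⟩
    change (D.map (f y hy)).left ((c.π.app i₁).left z) ∈ A y
    rw [← Scheme.Hom.comp_apply, ← Over.comp_left, c.w]
    exact hz
  obtain ⟨i₂, φ, hφ⟩ := exists_map_eq_top (D ⋙ Over.forget S) ((Over.forget S).mapCone c) hc U hU
  refine ⟨i₂, φ ≫ f₀, fun j ψ x => ?_⟩
  have hx : (D.map ψ).left x ∈ (D.map φ).left ⁻¹ᵁ U := by
    have : (D.map φ).left ⁻¹ᵁ U = ⊤ := hφ
    rw [this]
    trivial
  obtain ⟨⟨y, hy⟩, hxy⟩ := TopologicalSpace.Opens.mem_iSup.1 hx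
  let φ' : j ⟶ i y := ψ ≫ φ ≫ f y hy
  have hxA : x ∈ (D.map φ').left ⁻¹ᵁ (A y) := by
    change (D.map φ').left x ∈ A y
    have e : (D.map φ').left = (D.map ψ).left ≫ (D.map φ).left ≫ (D.map (f y hy)).left := by
      rw [← Over.comp_left, ← Over.comp_left, ← D.map_comp, ← D.map_comp]
    rw [e, Scheme.Hom.comp_apply, Scheme.Hom.comp_apply]
    exact hxy
  refine ⟨(D.map φ').left ⁻¹ᵁ (A y), hxA, opnMap (D.map φ') _ _ le_rfl ≫ κ y, ?_⟩
  have e8 : (yon S).map (opnMap (D.map φ') ((D.map φ').left ⁻¹ᵁ (A y)) _ le_rfl) ≫ (yon S).map (opnι (D.obj (i y)) (A y)) =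
      (yon S).map (opnι (D.obj j) _) ≫ (yon S).map (D.map φ') := by
    rw [← (yon S).map_comp, opnMap_ι, (yon S).map_comp]
  rw [(yon S).map_comp, Category.assoc, hκ, ← Category.assoc, e8, Category.assoc, ht]

end main

end K604.Spread
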